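import Cfsg.Agent.Goldschmidt.Three.CentC
import Cfsg.Agent.Walter.RankThree.Basic
import Cfsg.Agent.Components.Signalizer.Sft.Main
import Cfsg.Agent.InvolCalc.ZStarApps

/-!
Rank three: the odd cores form a balanced functor on `A`, and the centralisers of the involutions of `A` lie in the
normaliser of its completion (or of the product of the components).
-/

set_option autoImplicit false
set_option linter.unusedSectionVars false
set_option linter.style.haveILetI false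

namespace Cfsg.Lib.Goldschmidt.R3

open Subgroup Cfsg.Lib.Components
open scoped commutatorElement
open Cfsg.Lib.Walter (IsComp Triv Oc Qt qm bar)
open Cfsg.Lib.Components.PTerminal (Cent mem_cent)

universe u

variable {G : Type u} [Group G] [Finite G]

/-- The subgroup generated by the odd cores. -/
def Wt (A : Subgroup G) : Subgroup G := ⨆ v : {v : G // v ∈ A ∧ v ≠ 1}, Oc v.1

theorem oc_le_wt {A : Subgroup G} {v : G} (hv : v ∈ A) (hv1 : v ≠ 1) : Oc v ≤ Wt A :=
  le_iSup (fun v : {v : G // v ∈ A ∧ v ≠ 1} => Oc v.1) ⟨v, hv, hv1⟩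

theorem mem_of_sq {K : Subgroup G} {x : G} (ho : Odd (orderOf x)) (h2 : x * x ∈ K) : x ∈ K := by
  obtain ⟨k, hk⟩ := ho
  have h1 := pow_mem h2 (k + 1)
  rwa [← pow_two, ← pow_mul, show 2 * (k + 1) = orderOf x + 1 by omega, pow_succ, pow_orderOf_eq_one, one_mul] at h1

theorem conj_comm_inv {a x : G} (hxa : a * x * a⁻¹ = x⁻¹) : x * a * x⁻¹ * a⁻¹ = x * x := by
  rw [show x * a * x⁻¹ * a⁻¹ = x * (a * x * a⁻¹)⁻¹ by group, hxa, inv_inv]

variable {S : Sylow 2 G} {A : Subgroup G} {i : G} {a : G} {L : Subgroup G} (h : Central S A i)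
include h

namespace Central

theorem norm_wt {g : G} (hg : g ∈ normalizer (A : Set G)) : g ∈ normalizer (Wt A : Set G) := by
  refine ZStarApps.mem_normalizer_of_maps fun x hx => ?_
  refine (iSup_le fun v => ?_ : Wt A ≤ (Wt A).comap (MulAut.conj g).toMonoidHom) hx
  intro y hy
  exact oc_le_wt ((mem_normalizer_iff.1 hg v.1).1 v.2.1) (fun e => v.2.2 (conj_eq_one_iff.1 e))
    (Walter.R3.conj_mem_oc hy)

/-- An odd subgroup of `C(a)` normalised by `C(a, i)` centralises the component modulo the core. -/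
theorem cent_of_odd (hm : Moved A a L) {D : Subgroup G} (hD : D ≤ centralizer ({a} : Set G))
    (hodd : Odd (Nat.card D))
    (hn : centralizer ({a} : Set G) ⊓ centralizer ({i} : Set G) ≤ normalizer (D : Set G)) :
    D ≤ Cent 2 (centralizer ({a} : Set G)) L := by
  classical
  obtain ⟨hsimple, -, -, -, -, P, hF, -, -⟩ := layer_facts h.toCfg hm
  haveI := hsimple
  haveI := bar_normal h.toCfg hm
  set C := centralizer ({a} : Set G)
  set K := bar a L
  set D' := (D.subgroupOf C).map (qm a) with hD'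
  have hD'odd : Odd (Nat.card D') := hodd.of_dvd_nat ((card_map_dvd _ _).trans
    (card_comap_dvd_of_injective _ _ C.subtype_injective))
  have hKD : ∀ k ∈ K, ∀ d ∈ D', k * d * k⁻¹ ∈ D' := by
    rintro _ ⟨l, hl, rfl⟩ _ ⟨d, hd, rfl⟩
    obtain ⟨o, ho, hlo⟩ := h.cover hm (show (l : G) ∈ L from hl)
    have hoC : o ∈ C := hm.2.2.1.1 (mem_inf.1 ho).2
    have ho1 : qm a ⟨o, hoC⟩ = 1 := (Walter.mem_Oc.1 (mem_inf.1 ho).1).2
    refine ⟨l * ⟨o, hoC⟩ * d * (l * ⟨o, hoC⟩)⁻¹, ?_, ?_⟩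
    · exact (mem_normalizer_iff.1 (hn (mem_inf.2 ⟨mul_mem l.2 hoC, hlo⟩)) (d : G)).1 hd
    · rw [map_mul, map_mul, map_inv, map_mul, ho1, mul_one]
  have hI : D'.subgroupOf K = ⊥ := by
    haveI : (D'.subgroupOf K).Normal := ⟨fun d hd k => hKD k k.2 d hd⟩
    refine (IsSimpleGroup.eq_bot_or_eq_top_of_normal _ inferInstance).resolve_right fun e => ?_
    obtain ⟨j, -, hj, -, hj1, -⟩ := hF.two
    have hle : K ≤ D' := fun k hk => by
      have h1 : (⟨k, hk⟩ : K) ∈ D'.subgroupOf K := e ▸ mem_top _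
      exact h1
    exact hj1 (Subtype.ext (Walter.R3.eq_one_of_sq hD'odd (hle j.2) (congrArg Subtype.val hj.2 :)))
  intro d hd
  refine (mem_cent hm.2.2.1.1).2 ⟨hD hd, fun l hl => Walter.mem_Oc.2
    ⟨mul_mem (mul_mem (mul_mem (hm.2.2.1.1 hl) (hD hd)) (inv_mem (hm.2.2.1.1 hl))) (inv_mem (hD hd)), ?_⟩⟩
  rw [show (⟨⁅l, d⁆, _⟩ : C) = ⁅(⟨l, hm.2.2.1.1 hl⟩ : C), ⟨d, hD hd⟩⁆ from rfl, map_commutatorElement]
  set x := qm a ⟨l, hm.2.2.1.1 hl⟩
  set y := qm a ⟨d, hD hd⟩
  have hx : x ∈ K := qm_mem h.toCfg hm hl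
  have hy : y ∈ D' := mem_map_of_mem _ (show (⟨d, hD hd⟩ : C) ∈ D.subgroupOf C from hd)
  have h1 : x * y * x⁻¹ * y⁻¹ ∈ K := by
    rw [show x * y * x⁻¹ * y⁻¹ = x * (y * x⁻¹ * y⁻¹) by group]
    exact mul_mem hx ((inferInstance : K.Normal).conj_mem _ (inv_mem hx) y)
  have h2 : x * y * x⁻¹ * y⁻¹ ∈ D' := mul_mem (hKD x hx y hy) (inv_mem hy)
  have h3 : (⟨_, h1⟩ : K) ∈ D'.subgroupOf K := h2
  rw [hI, mem_bot] at h3
  exact congrArg Subtype.val h3

/-- An element inverted by `i` centralises the component modulo the core. -/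
theorem cent_of_inverted (hm : Moved A a L) {u : G} (hu : u ∈ centralizer ({a} : Set G)) (hodd : Odd (orderOf u))
    (hinv : i * u * i⁻¹ = u⁻¹) : u ∈ Cent 2 (centralizer ({a} : Set G)) L := by
  haveI := bar_normal h.toCfg hm
  set C := centralizer ({a} : Set G)
  have hiC : i ∈ C := h.mem_cz hm.1
  set y := qm a ⟨u, hu⟩
  set z := qm a ⟨i, hiC⟩
  have hz : ∀ k ∈ bar a L, z * k = k * z := by
    rintro _ ⟨l, hl, rfl⟩
    obtain ⟨_, he⟩ := Walter.mem_Oc.1 (((mem_cent hm.2.2.1.1).1 (h.act hm)).2 l hl)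
    have e : qm a ⁅l, (⟨i, hiC⟩ : C)⁆ = 1 := he
    rw [map_commutatorElement, commutatorElement_eq_one_iff_mul_comm] at e
    exact e.symm
  have hzy : z * y * z⁻¹ = y⁻¹ := by
    rw [← map_inv, ← map_mul, ← map_mul, ← map_inv]
    exact congrArg (qm a) (Subtype.ext hinv)
  have hkk : ∀ k ∈ bar a L, (y * y) * k = k * (y * y) := by
    intro k hk
    have hyk : y * k * y⁻¹ ∈ bar a L := (inferInstance : (bar a L).Normal).conj_mem k hk y
    have e1 : z * (y * k * y⁻¹) * z⁻¹ = y * k * y⁻¹ := by rw [hz _ hyk, mul_inv_cancel_right]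
    have e2 : z * (y * k * y⁻¹) * z⁻¹ = y⁻¹ * k * y := by
      rw [show z * (y * k * y⁻¹) * z⁻¹ = (z * y * z⁻¹) * (z * k * z⁻¹) * (z * y * z⁻¹)⁻¹ by group, hzy, hz k hk,
        mul_inv_cancel_right, inv_inv]
    calc y * y * k = y * (y * k * y⁻¹) * y := by group
      _ = y * (y⁻¹ * k * y) * y := by rw [← e1, e2]
      _ = _ := by group
  refine (mem_cent hm.2.2.1.1).2 ⟨hu, fun l hl => Walter.mem_Oc.2
    ⟨mul_mem (mul_mem (mul_mem (hm.2.2.1.1 hl) hu) (inv_mem (hm.2.2.1.1 hl))) (inv_mem hu), ?_⟩⟩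
  rw [show (⟨⁅l, u⁆, _⟩ : C) = ⁅(⟨l, hm.2.2.1.1 hl⟩ : C), ⟨u, hu⟩⁆ from rfl, map_commutatorElement,
    commutatorElement_eq_one_iff_mul_comm]
  have hy : y ∈ centralizer ({qm a ⟨l, hm.2.2.1.1 hl⟩} : Set (Qt a)) := by
    refine mem_of_sq ?_ (mem_centralizer_singleton_iff.2 (hkk _ (qm_mem h.toCfg hm hl)))
    exact hodd.of_dvd_nat ((orderOf_map_dvd (qm a) _).trans (by rw [Subgroup.orderOf_mk]))
  exact (mem_centralizer_singleton_iff.1 hy).symm

/-- Trivial on the component: commutators with `A` lie in the core. -/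
theorem comm_core (hm : Moved A a L) {z : G} (hz : z ∈ Cent 2 (centralizer ({a} : Set G)) L) {v : G} (hv : v ∈ A) :
    z * v * z⁻¹ * v⁻¹ ∈ Oc a := by
  set C := centralizer ({a} : Set G)
  obtain ⟨hzC, hzL⟩ := (mem_cent hm.2.2.1.1).1 hz
  set M := (centralizer ({qm a ⟨z, hzC⟩} : Set (Qt a))).comap (qm a)
  have hle : A.subgroupOf C ≤ M := by
    have h1 : A ≤ M.map C.subtype := by
      rw [← h.loc.sup hm]
      refine sup_le (fun x hx => ?_) fun x hx => ?_
      · rcases (h.toCfg.mem_za hm).1 hx with rfl | rfl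
        · exact one_mem _
        · refine ⟨⟨x, mem_centralizer_singleton_iff.2 rfl⟩, mem_centralizer_singleton_iff.2 ?_, rfl⟩
          rw [← map_mul, ← map_mul]
          exact congrArg (qm x) (Subtype.ext (mem_centralizer_singleton_iff.1 hzC).symm)
      · refine ⟨⟨x, hm.2.2.1.1 hx.2⟩, mem_centralizer_singleton_iff.2 ?_, rfl⟩
        obtain ⟨_, he⟩ := Walter.mem_Oc.1 (hzL x hx.2)
        have e : qm a ⁅(⟨x, hm.2.2.1.1 hx.2⟩ : C), ⟨z, hzC⟩⁆ = 1 := he
        rwa [map_commutatorElement, commutatorElement_eq_one_iff_mul_comm] at e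
    intro x hx
    obtain ⟨y, hy, e⟩ := h1 hx
    exact (Subtype.ext e : y = x) ▸ hy
  have hvC : v ∈ C := h.min.le_cent hm.1 hv
  refine Walter.mem_Oc.2 ⟨mul_mem (mul_mem (mul_mem hzC hvC) (inv_mem hzC)) (inv_mem hvC), ?_⟩
  rw [show (⟨z * v * z⁻¹ * v⁻¹, _⟩ : C) = ⁅(⟨z, hzC⟩ : C), ⟨v, hvC⟩⁆ from rfl, map_commutatorElement,
    commutatorElement_eq_one_iff_mul_comm]
  exact (mem_centralizer_singleton_iff.1 (hle (show (⟨v, hvC⟩ : C) ∈ A.subgroupOf C from hv))).symm

theorem core_ci_le (ha : a ∈ A) : Oc i ⊓ centralizer ({a} : Set G) ≤ centralizer ({a} : Set G) ∧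
    centralizer ({a} : Set G) ⊓ centralizer ({i} : Set G) ≤
      normalizer ((Oc i ⊓ centralizer ({a} : Set G) : Subgroup G) : Set G) :=
  ⟨inf_le_right, fun g hg => ZStarApps.mem_normalizer_of_maps fun x hx => mem_inf.2
    ⟨(mem_normalizer_iff.1 (Walter.R3.oc_norm i (mem_inf.1 hg).2) x).1 (mem_inf.1 hx).1,
      mul_mem (mul_mem (mem_inf.1 hg).1 (mem_inf.1 hx).2) (inv_mem (mem_inf.1 hg).1)⟩⟩

/-- Balance. -/
theorem balance {b x : G} (ha : a ∈ A) (ha1 : a ≠ 1) (hb : b ∈ A) (hb1 : b ≠ 1) (hx : x ∈ Oc b)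
    (hxa : x ∈ centralizer ({a} : Set G)) : x ∈ Oc a := by
  refine h.loc.faith ha ha1 hb hb1 hx hxa fun L hm => ?_
  set D := Oc b ⊓ centralizer ({a} : Set G)
  have hDodd : Odd (Nat.card D) := (odd_oc b).of_dvd_nat (card_dvd_of_le inf_le_left)
  have hiD : i ∈ normalizer (D : Set G) := ZStarApps.mem_normalizer_of_maps fun y hy => mem_inf.2
    ⟨(mem_normalizer_iff.1 (Walter.R3.oc_norm b (h.mem_cz hb)) y).1 (mem_inf.1 hy).1,
      mul_mem (mul_mem (h.mem_cz ha) (mem_inf.1 hy).2) (inv_mem (h.mem_cz ha))⟩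
  obtain ⟨u, hu, hui, v, hv, hvi, rfl⟩ :=
    Cfsg.Lib.BenderSE.exists_commute_mul_inverted hDodd h.sq hiD (mem_inf.2 ⟨hx, hxa⟩)
  have hu' : u ∈ Cent 2 (centralizer ({a} : Set G)) L := by
    obtain ⟨h1, h2⟩ := h.core_ci_le (a := a) ha
    exact h.cent_of_odd hm h1 ((odd_oc i).of_dvd_nat (card_dvd_of_le inf_le_left)) h2
      (mem_inf.2 ⟨h.core_ci hb (mem_inf.1 hu).1 (mem_centralizer_singleton_iff.2 hui), (mem_inf.1 hu).2⟩)
  have hv' := h.cent_of_inverted hm (mem_inf.1 hv).2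
    (hDodd.of_dvd_nat (Subgroup.orderOf_dvd_natCard _ hv)) hvi
  obtain ⟨hc, hcl⟩ := (mem_cent hm.2.2.1.1).1 (mul_mem hu' hv')
  intro l hl
  rw [show u * v * l * (u * v)⁻¹ * l⁻¹ = ⁅l, u * v⁆⁻¹ by rw [commutatorElement_def]; group]
  exact inv_mem (hcl l hl)

theorem noncyclic : ¬ IsCyclic ↥A := fun hc => by
  haveI := hc
  obtain ⟨g, hg⟩ := IsCyclic.exists_generator (α := ↥A)
  have h2 : orderOf g ∣ 2 := orderOf_dvd_of_pow_eq_one (Subtype.ext (by
    rw [Subgroup.coe_pow, pow_two]; exact h.min.sq g g.2))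
  rw [orderOf_eq_card_of_forall_mem_zpowers hg, h.three.card] at h2
  norm_num at h2

theorem wt_family : Odd (Nat.card ↥(Wt A)) ∧
    ∀ v ∈ A, v ≠ 1 → ∀ x ∈ Wt A, x ∈ centralizer ({v} : Set G) → x ∈ Oc v := by
  haveI : Fact (Nat.Prime 2) := ⟨Nat.prime_two⟩
  have hθ : Cfsg.IsSolvableSignalizerFunctor 2 A (fun v => Oc v) := by
    refine ⟨⟨fun a _ _ => Cfsg.Lib.Components.centralizerPPrimeCore_le_centralizer a, fun a _ _ h2 => ?_,
      fun a ha _ b hb x hx => (mem_normalizer_iff.1 (Walter.R3.oc_norm a (h.min.le_cent ha hb)) x).1 hx,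
      fun a ha ha1 b hb hb1 x hx => h.balance hb hb1 ha ha1 (mem_inf.1 hx).1 (mem_inf.1 hx).2⟩,
      fun a _ _ => Cfsg.Agent.PF.isSolvable_of_odd _ (odd_oc a)⟩
    exact Nat.not_even_iff_odd.2 (odd_oc a) (even_iff_two_dvd.2 h2)
  obtain ⟨W, hW, hle⟩ := Cfsg.Lib.Sft.exists_member h.min.elemAb (by rw [h.three.card]; norm_num) hθ
  have hWle : Wt A ≤ W := iSup_le fun v => hle v.1 v.2.1 v.2.2
  refine ⟨?_, fun v hv hv1 x hx hxv => hW.2.2.2 v hv hv1 (mem_inf.2 ⟨hWle hx, hxv⟩)⟩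
  refine Odd.of_dvd_nat ?_ (card_dvd_of_le hWle)
  rw [← Nat.not_even_iff_odd, even_iff_two_dvd]
  exact hW.2.1

/-- An odd subgroup normalised by `A` is generated by the fixed points of the involutions of `A`. -/
theorem le_of_fixed {D K : Subgroup G} (hD : Odd (Nat.card D)) (hn : A ≤ normalizer (D : Set G))
    (hfix : ∀ v ∈ A, v ≠ 1 → ∀ x ∈ D, x ∈ centralizer ({v} : Set G) → x ∈ K) : D ≤ K := by
  haveI : IsMulCommutative ↥A := ⟨⟨fun x y => Subtype.ext (h.min.comm x x.2 y y.2)⟩⟩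
  rw [← Cfsg.Lib.Coprime.centralizerJoin_eq h.noncyclic hn
    (by rw [h.three.card]; exact Nat.Coprime.pow_left 3 (Nat.coprime_two_left.2 hD))]
  exact iSup₂_le fun v hv x hx => hfix v hv.1 hv.2 x (mem_inf.1 hx).1 (mem_inf.1 hx).2

omit h in
/-- The elements normalising `W` and acting trivially on `A` modulo it. -/
def good (A : Subgroup G) : Subgroup G where
  carrier := {z | z ∈ normalizer (Wt A : Set G) ∧ ∀ v ∈ A, z * v * z⁻¹ * v⁻¹ ∈ Wt A}
  one_mem' := ⟨one_mem _, fun v _ => by simp⟩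
  mul_mem' := fun {z z'} hz hz' => ⟨mul_mem hz.1 hz'.1, fun v hv => by
    rw [show z * z' * v * (z * z')⁻¹ * v⁻¹ = z * (z' * v * z'⁻¹ * v⁻¹) * z⁻¹ * (z * v * z⁻¹ * v⁻¹) by group]
    exact mul_mem ((mem_normalizer_iff.1 hz.1 _).1 (hz'.2 v hv)) (hz.2 v hv)⟩
  inv_mem' := fun {z} hz => ⟨inv_mem hz.1, fun v hv => by
    have := (mem_normalizer_iff.1 (inv_mem hz.1) _).1 (inv_mem (hz.2 v hv))
    rwa [show z⁻¹ * (z * v * z⁻¹ * v⁻¹)⁻¹ * z⁻¹⁻¹ = z⁻¹ * v * z⁻¹⁻¹ * v⁻¹ by group] at this⟩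

theorem mem_good (hm : Moved A a L) {z : G} (hz : z ∈ Cent 2 (centralizer ({a} : Set G)) L) : z ∈ good A := by
  haveI : Fact (Nat.Prime 2) := ⟨Nat.prime_two⟩
  have hW := oc_le_wt hm.1 hm.2.1
  refine ⟨?_, fun v hv => hW (h.comm_core hm hz hv)⟩
  obtain ⟨o, ho, hoz⟩ := exists_norm_lift (B := A) (N := Oc a) (l := z) (S.isPGroup'.to_le h.min.le) (odd_oc a)
    ((h.min.le_cent hm.1).trans (Walter.R3.oc_norm a)) fun v hv => by
      have h3 := mul_mem (mem_sup_right (S := A) (h.comm_core hm hz hv)) (mem_sup_left (T := Oc a) hv)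
      rwa [inv_mul_cancel_right] at h3
  have := mul_mem (inv_mem (le_normalizer (hW ho))) (h.norm_wt hoz)
  rwa [inv_mul_cancel_left] at this

/-- `a` is isolated in `C(a i)`. -/
theorem isolated (ha : a ∈ A) (ha1 : a ≠ 1) :
    Cfsg.IsIsolatedInvolution (⟨a, mem_centralizer_singleton_iff.2
      (show a * (a * i) = a * i * a by rw [mul_assoc a i a, h.commA ha])⟩ : ↥(centralizer ({a * i} : Set G))) := by
  haveI : Fact (Nat.Prime 2) := ⟨Nat.prime_two⟩
  set H := centralizer ({a * i} : Set G)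
  have haH : a ∈ H := mem_centralizer_singleton_iff.2
    (show a * (a * i) = a * i * a by rw [mul_assoc a i a, h.commA ha])
  have hSH : (S : Subgroup G) ≤ H := fun s hs => mem_centralizer_singleton_iff.2 (by
    have h1 : Commute a s := mem_centralizer_iff.1 (h.three.cent hs) a ha
    have h2 : Commute i s := h.comm s hs
    exact (h1.mul_left h2).symm.eq)
  have hAH : A ≤ H := h.min.le.trans hSH
  refine ⟨(Subgroup.orderOf_mk a haH).trans (h.min.ord_two ha ha1), ?_⟩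
  rintro ⟨g, hg⟩ hcomm
  refine Subtype.ext ?_
  show g * a * g⁻¹ = a
  set b := g * a * g⁻¹
  have hab : Commute a b := congrArg Subtype.val hcomm
  have hbH : b ∈ H := mul_mem (mul_mem hg haH) (inv_mem hg)
  set U := H ⊓ centralizer ({a} : Set G)
  have hSU : (S : Subgroup G) ≤ U := le_inf hSH (h.toCfg.le_cz ha)
  have hbU : b ∈ U := mem_inf.2 ⟨hbH, mem_centralizer_singleton_iff.2 hab.symm.eq⟩
  obtain ⟨T, hT⟩ := (IsPGroup.of_card (n := 1) (by
    rw [Nat.card_zpowers, Subgroup.orderOf_mk, show orderOf b = orderOf a from MulEquiv.orderOf_eq (MulAut.conj g) a,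
      h.min.ord_two ha ha1, pow_one]) : IsPGroup 2 ↥(zpowers (⟨b, hbU⟩ : U))).exists_le_sylow
  obtain ⟨k, hk⟩ := MulAction.exists_smul_eq U T (S.subtype hSU)
  have hbS : (k : G) * b * (k : G)⁻¹ ∈ (S : Subgroup G) := by
    have h1 : k * ⟨b, hbU⟩ * k⁻¹ ∈ ((S.subtype hSU : Sylow 2 U) : Subgroup U) := by
      rw [← hk, Sylow.coe_subgroup_smul]
      exact ⟨⟨b, hbU⟩, hT (mem_zpowers _), rfl⟩
    exact h1
  obtain ⟨hkH, hka⟩ := mem_inf.1 k.2
  set g' := (k : G) * g
  have hg' : g' ∈ H := mul_mem hkH hg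
  have e' : g' * a * g'⁻¹ = (k : G) * b * (k : G)⁻¹ := by simp only [g', b]; group
  have hbA : g' * a * g'⁻¹ ∈ A := h.min.closed.2 a ha g' (e' ▸ hbS)
  have hclH : Cfsg.IsStronglyClosed (A.subgroupOf H) ((S.subtype hSH : Sylow 2 H) : Subgroup H) :=
    ⟨fun x hx => h.min.le hx, fun x hx y hy => h.min.closed.2 _ hx y hy⟩
  obtain ⟨n, hn, hna⟩ := fusion hclH (fun x hx y hy => Subtype.ext (h.min.comm _ hx _ hy))
    (x := (⟨a, haH⟩ : H)) (g := (⟨g', hg'⟩ : H)) ha hbA
  have hnN : (n : G) ∈ normalizer (A : Set G) := ZStarApps.mem_normalizer_of_maps fun x hx =>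
    (mem_normalizer_iff.1 hn ⟨x, hAH hx⟩).1 hx
  set b' := g' * a * g'⁻¹
  have hb' : (n : G) * a * (n : G)⁻¹ = b' := congrArg Subtype.val hna
  have hi' : (n : G) * i * (n : G)⁻¹ * i⁻¹ = b'⁻¹ * a := by
    have e1 : (n : G) * (a * i) = a * i * n := mem_centralizer_singleton_iff.1 n.2
    have e2 : b' * ((n : G) * i * (n : G)⁻¹) = a * i := by
      rw [← hb', show (n : G) * a * (n : G)⁻¹ * ((n : G) * i * (n : G)⁻¹) = (n : G) * (a * i) * (n : G)⁻¹ by group,
        e1, mul_inv_cancel_right]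
    calc (n : G) * i * (n : G)⁻¹ * i⁻¹ = b'⁻¹ * (b' * ((n : G) * i * (n : G)⁻¹)) * i⁻¹ := by group
      _ = _ := by rw [e2]; group
  have hd : b'⁻¹ * a ∈ A := mul_mem (inv_mem hbA) ha
  have hall : ∀ {p K}, Moved A p K → b'⁻¹ * a ∈ ZA A p K := by
    intro p K hk'
    refine mem_inf.2 ⟨hd, ?_⟩
    rw [← hi']
    refine mul_mem ?_ (inv_mem (h.act hk'))
    have hk'' := hk'.conj (inv_mem hnN)
    have h1 := PTerminal.cent_conj hk''.2.2.1.1 (h.act hk'') (n : G)
    rwa [map_cz, map_map_conj, mul_inv_cancel, show (MulAut.conj (1 : G)).toMonoidHom = MonoidHom.id G by ext; simp,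
      Subgroup.map_id, show (n : G) * ((n : G)⁻¹ * p * (n : G)⁻¹⁻¹) * (n : G)⁻¹ = p by group] at h1
  have hb1 : b' = a := by
    obtain ⟨L₁, hm₁⟩ := exists_L h.toCfg ha ha1
    haveI : Nontrivial ↥(A ⊓ L₁) := Finite.one_lt_card_iff_nontrivial.1
      (by rw [(layer_facts h.toCfg hm₁).2.2.2.2.1]; norm_num)
    obtain ⟨⟨p, hp⟩, hp1⟩ := exists_ne (1 : ↥(A ⊓ L₁))
    obtain ⟨Lp, hmp⟩ := exists_L h.toCfg (mem_inf.1 hp).1 (fun e => hp1 (Subtype.ext e))
    rcases (h.toCfg.mem_za hm₁).1 (hall hm₁) with e | e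
    · exact inv_mul_eq_one.1 e
    rcases (h.toCfg.mem_za hmp).1 (hall hmp) with e1 | e1
    · exact inv_mul_eq_one.1 e1
    · exact absurd ((e1.symm.trans e) ▸ (mem_inf.1 hp).2) (layer_facts h.toCfg hm₁).2.2.2.1
  have e4 : (k : G) * b * (k : G)⁻¹ = a := e'.symm.trans hb1
  calc b = (k : G)⁻¹ * ((k : G) * b * (k : G)⁻¹) * k := by group
    _ = (k : G)⁻¹ * (a * k) := by rw [e4, mul_assoc]
    _ = a := by rw [← mem_centralizer_singleton_iff.1 hka, inv_mul_cancel_left]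

theorem comm_mem_oc (ha : a ∈ A) (ha1 : a ≠ 1) {x : G} (hx : x ∈ centralizer ({a * i} : Set G)) :
    x * a * x⁻¹ * a⁻¹ ∈ Oc (a * i) := by
  have h1 : a * x * a⁻¹ * x⁻¹ ∈ Oc (a * i) := ⟨_, ZStarApps.zstarProp (h.isolated ha ha1) ⟨x, hx⟩, rfl⟩
  have h2 := inv_mem h1
  rwa [show (a * x * a⁻¹ * x⁻¹)⁻¹ = x * a * x⁻¹ * a⁻¹ by group] at h2

/-- The cores at `i` and at `a i` are good. -/
theorem oc_le_good {y : G} (hy : y = i ∨ ∃ a ∈ A, a ≠ 1 ∧ y = a * i) : Oc y ≤ good A := by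
  have hSy : (S : Subgroup G) ≤ centralizer ({y} : Set G) := fun s hs => mem_centralizer_singleton_iff.2 (by
    rcases hy with rfl | ⟨a, ha, -, rfl⟩
    · exact (h.comm s hs).symm
    · exact ((show Commute a s from mem_centralizer_iff.1 (h.three.cent hs) a ha).mul_left
        (show Commute i s from h.comm s hs)).symm.eq)
  have hAn : A ≤ normalizer (Oc y : Set G) := (h.min.le.trans hSy).trans (Walter.R3.oc_norm y)
  refine h.le_of_fixed (odd_oc y) hAn fun b hb hb1 z hz hzb => ?_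
  obtain ⟨L, hm⟩ := exists_L h.toCfg hb hb1
  rcases hy with rfl | ⟨a, ha, ha1, rfl⟩
  · exact h.mem_good hm (h.cent_of_odd hm (h.core_ci_le hb).1 ((odd_oc _).of_dvd_nat (card_dvd_of_le inf_le_left))
      (h.core_ci_le hb).2 (mem_inf.2 ⟨hz, hzb⟩))
  · set D := Oc (a * i) ⊓ centralizer ({b} : Set G)
    have hDodd : Odd (Nat.card D) := (odd_oc (a * i)).of_dvd_nat (card_dvd_of_le inf_le_left)
    have hiD : i ∈ normalizer (D : Set G) := ZStarApps.mem_normalizer_of_maps fun x hx => mem_inf.2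
      ⟨(mem_normalizer_iff.1 (Walter.R3.oc_norm _ (hSy h.mem)) x).1 (mem_inf.1 hx).1,
        mul_mem (mul_mem (h.mem_cz hb) (mem_inf.1 hx).2) (inv_mem (h.mem_cz hb))⟩
    obtain ⟨u, hu, hui, v, hv, hvi, rfl⟩ :=
      Cfsg.Lib.BenderSE.exists_commute_mul_inverted hDodd h.sq hiD (mem_inf.2 ⟨hz, hzb⟩)
    refine mul_mem ?_ (h.mem_good hm (h.cent_of_inverted hm (mem_inf.1 hv).2
      (hDodd.of_dvd_nat (Subgroup.orderOf_dvd_natCard _ hv)) hvi))
    -- the fixed part lies in `C(a)`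
    have hua : u ∈ centralizer ({a} : Set G) := mem_centralizer_singleton_iff.2 (by
      have h1 : Commute u (a * i) := Walter.R3.oc_comm (mem_inf.1 hu).1
      have h2 := h1.mul_right hui.inv_right
      rw [mul_inv_cancel_right] at h2
      exact h2.eq)
    obtain ⟨La, hma⟩ := exists_L h.toCfg ha ha1
    refine h.mem_good hma (h.cent_of_odd hma (D := Oc (a * i) ⊓ centralizer ({a} : Set G)) inf_le_right
      ((odd_oc (a * i)).of_dvd_nat (card_dvd_of_le inf_le_left)) (fun g hg => ?_) (mem_inf.2 ⟨(mem_inf.1 hu).1, hua⟩))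
    have hgy : g ∈ centralizer ({a * i} : Set G) := mem_centralizer_singleton_iff.2
      ((show Commute g a from mem_centralizer_singleton_iff.1 (mem_inf.1 hg).1).mul_right
        (show Commute g i from mem_centralizer_singleton_iff.1 (mem_inf.1 hg).2)).eq
    exact ZStarApps.mem_normalizer_of_maps fun x hx => mem_inf.2
      ⟨(mem_normalizer_iff.1 (Walter.R3.oc_norm _ hgy) x).1 (mem_inf.1 hx).1,
        mul_mem (mul_mem (mem_inf.1 hg).1 (mem_inf.1 hx).2) (inv_mem (mem_inf.1 hg).1)⟩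

/-- `C(a, i)` normalises the completion. -/
theorem norm_of_cent (ha : a ∈ A) (ha1 : a ≠ 1) {t : G} (hta : t ∈ centralizer ({a} : Set G))
    (hti : t ∈ centralizer ({i} : Set G)) : t ∈ normalizer (Wt A : Set G) := by
  haveI : Fact (Nat.Prime 2) := ⟨Nat.prime_two⟩
  obtain ⟨hWo, hWfix⟩ := h.wt_family
  set V := zpowers a ⊔ zpowers i
  have hai : Commute a i := (h.commA ha).symm
  have haa : a * a = 1 := h.min.sq a ha
  have hn : zpowers i ≤ normalizer ((zpowers a : Subgroup G) : Set G) := zpowers_le.2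
    (centralizer_le_normalizer _ (mem_centralizer_iff.2 fun y hy => by
      obtain ⟨k, rfl⟩ := mem_zpowers_iff.1 hy
      exact (hai.zpow_left k).eq))
  have htwo : ∀ {x : G}, x * x = 1 → ∀ y ∈ zpowers x, y = 1 ∨ y = x := by
    intro x hx y hy
    obtain ⟨k, rfl⟩ := mem_zpowers_iff.1 hy
    have h2 : x ^ (2 : ℤ) = 1 := by rw [zpow_two, hx]
    rcases Int.even_or_odd' k with ⟨j, rfl | rfl⟩
    · left; rw [zpow_mul, h2, one_zpow]
    · right; rw [zpow_add, zpow_mul, h2, one_zpow, one_mul, zpow_one]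
  have hV : ∀ v ∈ V, v = 1 ∨ v = a ∨ v = i ∨ v = a * i := by
    intro v hv
    obtain ⟨y, hy, x, hx, e⟩ := (Cfsg.Lib.Coprime.mem_sup_of_le_normalizer' hn).1 hv
    rcases htwo h.sq y hy with rfl | rfl <;> rcases htwo haa x hx with rfl | rfl <;> rw [← e]
    · exact Or.inl (one_mul 1)
    · exact Or.inr (Or.inl (one_mul _))
    · exact Or.inr (Or.inr (Or.inl (mul_one _)))
    · exact Or.inr (Or.inr (Or.inr hai.symm.eq))
  haveI : IsMulCommutative ↥V := by
    refine ⟨⟨fun x y => Subtype.ext ?_⟩⟩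
    rcases hV x x.2 with e | e | e | e <;> rcases hV y y.2 with e' | e' | e' | e' <;>
      simp only [Subgroup.coe_mul, e, e', one_mul, mul_one] <;>
      first | rfl | exact hai.eq | exact hai.symm.eq | exact ((Commute.refl a).mul_right hai).eq |
        exact ((Commute.refl a).mul_right hai).symm.eq | exact (hai.symm.mul_right (Commute.refl i)).eq |
        exact (hai.symm.mul_right (Commute.refl i)).symm.eq
  have hVle : V ≤ (S : Subgroup G) := sup_le (zpowers_le.2 (h.min.le ha)) (zpowers_le.2 h.mem)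
  have hVsq : ∀ v ∈ V, v * v = 1 := fun v hv => by
    rcases hV v hv with rfl | rfl | rfl | rfl
    · exact one_mul 1
    · exact haa
    · exact h.sq
    · rw [show a * i * (a * i) = a * (i * a) * i by group, ← hai.eq, show a * (a * i) * i = a * a * (i * i) by group,
        haa, h.sq, one_mul]
  have hVnc : ¬ IsCyclic ↥V := fun hc => by
    haveI := hc
    obtain ⟨g, hg⟩ := IsCyclic.exists_generator (α := ↥V)
    have hga := hg ⟨a, mem_sup_left (mem_zpowers a)⟩
    have hgi := hg ⟨i, mem_sup_right (mem_zpowers i)⟩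
    have hgg : g * g = 1 := Subtype.ext (hVsq g g.2)
    have h3 : ∀ y ∈ zpowers g, y = 1 ∨ y = g := fun y hy => by
      obtain ⟨k, rfl⟩ := mem_zpowers_iff.1 hy
      have h2 : g ^ (2 : ℤ) = 1 := by rw [zpow_two, hgg]
      rcases Int.even_or_odd' k with ⟨j, rfl | rfl⟩
      · left; rw [zpow_mul, h2, one_zpow]
      · right; rw [zpow_add, zpow_mul, h2, one_zpow, one_mul, zpow_one]
    rcases h3 _ hga with e | e
    · exact ha1 (congrArg Subtype.val e)
    rcases h3 _ hgi with e' | e'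
    · exact h.ne_one (congrArg Subtype.val e')
    · have : i = a := congrArg Subtype.val (e'.trans e.symm)
      exact h.out (this ▸ ha)
  have hVn : V ≤ normalizer (Wt A : Set G) := hVle.trans fun s hs => h.norm_wt (h.toCfg.le_norm hs)
  have hcop : (Nat.card V).Coprime (Nat.card ↥(Wt A)) := by
    obtain ⟨k, hk⟩ := IsPGroup.iff_card.1 (S.isPGroup'.to_le hVle)
    rw [hk]
    exact Nat.Coprime.pow_left k (Nat.coprime_two_left.2 hWo)
  suffices hsuf : Wt A ≤ (Wt A).comap (MulAut.conj t).toMonoidHom from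
    ZStarApps.mem_normalizer_of_maps fun x hx => hsuf hx
  refine (Cfsg.Lib.Coprime.centralizerJoin_eq hVnc hVn hcop).symm.trans_le ?_
  refine iSup₂_le fun v hv x hx => ?_
  obtain ⟨hxW, hxv⟩ := mem_inf.1 hx
  have htO : ∀ z ∈ Oc a, t * z * t⁻¹ ∈ Oc a := fun z hz => (mem_normalizer_iff.1 (Walter.R3.oc_norm a hta) z).1 hz
  show t * x * t⁻¹ ∈ Wt A
  have key : ∀ y, y = i ∨ y = a * i → x ∈ centralizer ({y} : Set G) → t * x * t⁻¹ ∈ Wt A := by
    intro y hy hxy
    set D := Wt A ⊓ centralizer ({y} : Set G)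
    have hDo : Odd (Nat.card D) := hWo.of_dvd_nat (card_dvd_of_le inf_le_left)
    have hay : a ∈ centralizer ({y} : Set G) := mem_centralizer_singleton_iff.2 (by
      rcases hy with rfl | rfl
      · exact hai.eq
      · exact ((Commute.refl a).mul_right hai).eq)
    have haD : a ∈ normalizer (D : Set G) := ZStarApps.mem_normalizer_of_maps fun z hz => mem_inf.2
      ⟨(mem_normalizer_iff.1 (h.norm_wt (le_normalizer ha)) z).1 (mem_inf.1 hz).1,
        mul_mem (mul_mem hay (mem_inf.1 hz).2) (inv_mem hay)⟩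
    obtain ⟨u, hu, hua, w, hw, hwa, rfl⟩ :=
      Cfsg.Lib.BenderSE.exists_commute_mul_inverted hDo haa haD (mem_inf.2 ⟨hxW, hxy⟩)
    have h1 : t * u * t⁻¹ ∈ Wt A :=
      oc_le_wt ha ha1 (htO u (hWfix a ha ha1 u (mem_inf.1 hu).1 (mem_centralizer_singleton_iff.2 hua)))
    have hwodd : Odd (orderOf w) := hDo.of_dvd_nat (Subgroup.orderOf_dvd_natCard _ hw)
    have hwy : w ∈ Oc y := by
      rcases hy with rfl | rfl
      · refine (h.le_of_fixed hDo ?_ fun b hb hb1 z hz hzb =>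
          h.core_ci hb (hWfix b hb hb1 z (mem_inf.1 hz).1 hzb) (mem_inf.1 hz).2) hw
        intro b hb
        exact ZStarApps.mem_normalizer_of_maps fun z hz => mem_inf.2
          ⟨(mem_normalizer_iff.1 (h.norm_wt (le_normalizer hb)) z).1 (mem_inf.1 hz).1,
            mul_mem (mul_mem (h.le_ci hb) (mem_inf.1 hz).2) (inv_mem (h.le_ci hb))⟩
      · refine mem_of_sq hwodd ?_
        have h2 := h.comm_mem_oc ha ha1 (mem_inf.1 hw).2
        rwa [conj_comm_inv hwa] at h2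
    have hty : t ∈ centralizer ({y} : Set G) := mem_centralizer_singleton_iff.2 (by
      have e1 : Commute t a := mem_centralizer_singleton_iff.1 hta
      have e2 : Commute t i := mem_centralizer_singleton_iff.1 hti
      rcases hy with rfl | rfl
      · exact e2.eq
      · exact (e1.mul_right e2).eq)
    set w' := t * w * t⁻¹
    have hw' : w' ∈ Oc y := (mem_normalizer_iff.1 (Walter.R3.oc_norm y hty) w).1 hwy
    have hgood := h.oc_le_good (y := y) (hy.imp id fun e => ⟨a, ha, ha1, e⟩) hw'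
    have hw'a : a * w' * a⁻¹ = w'⁻¹ := by
      have e1 : Commute t a := mem_centralizer_singleton_iff.1 hta
      calc a * w' * a⁻¹ = (a * t) * w * (a * t)⁻¹ := by simp only [w']; group
        _ = (t * a) * w * (t * a)⁻¹ := by rw [e1.eq]
        _ = t * (a * w * a⁻¹) * t⁻¹ := by group
        _ = _ := by rw [hwa]; simp only [w']; group
    have h3 : w' * w' ∈ Wt A := by
      rw [← conj_comm_inv hw'a]
      exact hgood.2 a ha
    rw [show t * (u * w) * t⁻¹ = (t * u * t⁻¹) * w' by simp only [w']; group]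
    refine mul_mem h1 (mem_of_sq ?_ h3)
    rw [show orderOf w' = orderOf w from MulEquiv.orderOf_eq (MulAut.conj t) w]
    exact hwodd
  rcases hV v hv.1 with e | e | e | e
  · exact absurd e hv.2
  · rw [e] at hxv; exact oc_le_wt ha ha1 (htO x (hWfix a ha ha1 x hxW hxv))
  · rw [e] at hxv; exact key i (Or.inl rfl) hxv
  · rw [e] at hxv; exact key (a * i) (Or.inr rfl) hxv

/-- With a nontrivial completion. -/
theorem cent_le_wt (ha : a ∈ A) (ha1 : a ≠ 1) : centralizer ({a} : Set G) ≤ normalizer (Wt A : Set G) := by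
  have hW : Oc a ≤ normalizer (Wt A : Set G) := (oc_le_wt ha ha1).trans le_normalizer
  refine (h.loc.generated ha ha1).trans (sup_le (sup_le hW (iSup_le fun K => ?_)) fun g hg => h.norm_wt hg.1)
  intro l hl
  obtain ⟨o, ho, hlo⟩ := h.cover K.2 hl
  have hla : l * o ∈ centralizer ({a} : Set G) := mul_mem (K.2.2.2.1.1 hl) (K.2.2.2.1.1 (mem_inf.1 ho).2)
  have := mul_mem (h.norm_of_cent ha ha1 hla hlo) (inv_mem (hW (mem_inf.1 ho).1))
  rwa [mul_inv_cancel_right] at this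

/-- Rank three: the centralisers generate a proper subgroup. -/
theorem proper : Proper A := by
  haveI := h.min.simple
  have hcenter : center G = ⊥ := by
    refine (IsSimpleGroup.eq_bot_or_eq_top_of_normal (center G) inferInstance).resolve_right fun e => h.min.nonab ?_
    exact ⟨⟨fun x y => mem_center_iff.1 (e ▸ mem_top y) x⟩⟩
  have hprop : ∀ M : Subgroup G, M ≠ ⊤ → M ≠ ⊥ → normalizer (M : Set G) ≠ ⊤ := fun M h1 h2 e => by
    rcases IsSimpleGroup.eq_bot_or_eq_top_of_normal M (normalizer_eq_top_iff.1 e) with e' | e'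
    · exact h2 e'
    · exact h1 e'
  by_cases hW : Wt A = ⊥
  · have hO : ∀ v ∈ A, v ≠ 1 → ∀ x ∈ Oc v, x = 1 := fun v hv hv1 x hx => by
      have := oc_le_wt hv hv1 hx
      rwa [hW, mem_bot] at this
    set J := ⨆ p : {p : G × Subgroup G // Moved A p.1 p.2}, (p : G × Subgroup G).2
    have hJi : J ≤ centralizer ({i} : Set G) := iSup_le fun p l hl => by
      have hk := p.2
      have h1 := hO _ hk.1 hk.2.1 _ (((mem_cent hk.2.2.1.1).1 (h.act hk)).2 l hl)
      exact mem_centralizer_singleton_iff.2 (commutatorElement_eq_one_iff_mul_comm.1 h1)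
    have hJtop : J ≠ ⊤ := fun e => by
      have hic : i ∈ center G := mem_center_iff.2 fun g =>
        mem_centralizer_singleton_iff.1 (hJi (e ▸ mem_top g))
      rw [hcenter, mem_bot] at hic
      exact h.ne_one hic
    obtain ⟨a₀, ha₀, ha₁⟩ := (bot_or_exists_ne_one A).resolve_left h.min.ne_bot
    obtain ⟨L₀, hm₀⟩ := exists_L h.toCfg ha₀ ha₁
    have hJbot : J ≠ ⊥ := fun e => by
      haveI : Nontrivial ↥(A ⊓ L₀) := Finite.one_lt_card_iff_nontrivial.1
        (by rw [(layer_facts h.toCfg hm₀).2.2.2.2.1]; norm_num)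
      obtain ⟨⟨p, hp⟩, hp1⟩ := exists_ne (1 : ↥(A ⊓ L₀))
      have hpJ : p ∈ J := le_iSup (fun p : {p : G × Subgroup G // Moved A p.1 p.2} => (p : G × Subgroup G).2)
        ⟨(a₀, L₀), hm₀⟩ (mem_inf.1 hp).2
      rw [e, mem_bot] at hpJ
      exact hp1 (Subtype.ext hpJ)
    have hNJ : normalizer (A : Set G) ≤ normalizer (J : Set G) := fun g hg => by
      refine ZStarApps.mem_normalizer_of_maps fun x hx => ?_
      refine (iSup_le fun p => ?_ : J ≤ J.comap (MulAut.conj g).toMonoidHom) hx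
      intro y hy
      exact le_iSup (fun p : {p : G × Subgroup G // Moved A p.1 p.2} => (p : G × Subgroup G).2)
        ⟨(_, _), p.2.conj hg⟩ ⟨y, hy, rfl⟩
    refine h.min.proper_of_le (hprop J hJtop hJbot) fun a ha ha1 => (h.loc.generated ha ha1).trans
      (sup_le (sup_le (fun x hx => ?_) (iSup_le fun K => ?_)) fun g hg => hNJ hg.1)
    · rw [hO a ha ha1 x hx]; exact one_mem _
    · exact le_trans (le_iSup (fun p : {p : G × Subgroup G // Moved A p.1 p.2} => (p : G × Subgroup G).2)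
        ⟨(a, K.1), K.2⟩) le_normalizer
  · have htop : Wt A ≠ ⊤ := fun e => by
      have ho := h.wt_family.1
      rw [e, card_top] at ho
      obtain ⟨x, hx, hx1⟩ := (bot_or_exists_ne_one A).resolve_left h.min.ne_bot
      exact Nat.not_even_iff_odd.2 ho (even_iff_two_dvd.2 (h.min.ord_two hx hx1 ▸ orderOf_dvd_natCard x))
    exact h.min.proper_of_le (hprop _ htop hW) fun a ha ha1 => h.cent_le_wt ha ha1

end Central

omit h in
/-- The critical case. -/
theorem threeCritSpec : ThreeCritSpec G := fun _ _ hm hl ht _ => by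
  obtain ⟨_, hc⟩ := (⟨hm, hl, ht⟩ : Cfg _ _).exists_central
  exact hc.proper

omit h in
/-- RUNB (a). -/
theorem threeUnbalSpec : ThreeUnbalSpec G := fun _ _ hm hl ht _ => by
  obtain ⟨_, hc⟩ := (⟨hm, hl, ht⟩ : Cfg _ _).exists_central
  exact hc.proper

end Cfsg.Lib.Goldschmidt.R3
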