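import Cfsg.Agent.Goldschmidt.Three.Cover
import Cfsg.Agent.Goldschmidt.Class.Three
import Cfsg.Agent.InvolCalc.Classes
import Cfsg.Agent.Walter.LocalQuot

/-!
Rank three: the moved component is normal in `C(a)`; modulo the core it is simple, the elements of `A` in it form
a four-group containing all involutions of its Sylow subgroup.
-/

set_option autoImplicit false
set_option linter.unusedSectionVars false
set_option linter.style.haveILetI false

namespace Cfsg.Lib.Goldschmidt.R3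

open Subgroup Cfsg.Lib.Components
open scoped commutatorElement
open Cfsg.Lib.Walter (IsComp Triv Oc Qt qm bar)

universe u

/-- Pure: an element moving a 2-subgroup into its product with an odd subgroup, corrected into the normaliser. -/
theorem exists_norm_lift {G : Type u} [Group G] [Finite G] {B N : Subgroup G} {l : G} (hB : IsPGroup 2 B)
    (hN : Odd (Nat.card N)) (hBN : B ≤ normalizer (N : Set G)) (hl : ∀ x ∈ B, l * x * l⁻¹ ∈ B ⊔ N) :
    ∃ n ∈ N, n * l ∈ normalizer (B : Set G) := by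
  haveI : Fact (Nat.Prime 2) := ⟨Nat.prime_two⟩
  set M := B ⊔ N with hM
  have hfac : ∀ x ∈ M, ∃ n ∈ N, ∃ b ∈ B, x = b * n := fun x hx => by
    have hx' : x ∈ N ⊔ B := by rw [sup_comm]; exact hx
    obtain ⟨b, hb, n, hn, e⟩ := (Cfsg.Lib.Coprime.mem_sup_of_le_normalizer' hBN).1 hx'
    exact ⟨n, hn, b, hb, e.symm⟩
  obtain ⟨j, hj⟩ := IsPGroup.iff_card.1 hB
  have hcard : Nat.card M = Nat.card B * Nat.card N := by
    refine Nat.dvd_antisymm ?_ (Nat.Coprime.mul_dvd_of_dvd_of_dvd ?_ (card_dvd_of_le le_sup_left)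
      (card_dvd_of_le le_sup_right))
    · have hle : Nat.card M ≤ Nat.card B * Nat.card N := by
        rw [← Nat.card_prod]
        refine Nat.card_le_card_of_surjective (fun p : B × N => (⟨(p.1 : G) * p.2,
          mul_mem (mem_sup_left p.1.2) (mem_sup_right p.2.2)⟩ : M)) fun x => ?_
        obtain ⟨n, hn, b, hb, e⟩ := hfac x x.2
        exact ⟨(⟨b, hb⟩, ⟨n, hn⟩), Subtype.ext e.symm⟩
      have hd : Nat.card B * Nat.card N ∣ Nat.card M := Nat.Coprime.mul_dvd_of_dvd_of_dvd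
        (by rw [hj]; exact Nat.Coprime.pow_left _ (Nat.coprime_two_left.2 hN)) (card_dvd_of_le le_sup_left)
        (card_dvd_of_le le_sup_right)
      exact (le_antisymm (Nat.le_of_dvd Nat.card_pos hd) hle) ▸ dvd_rfl
    · rw [hj]; exact Nat.Coprime.pow_left _ (Nat.coprime_two_left.2 hN)
  let P : Sylow 2 M := (hB.of_equiv (subgroupOfEquivOfLe (le_sup_left : B ≤ M)).symm).toSylow (by
    intro h2
    have h1 := card_mul_index (B.subgroupOf M)
    rw [Nat.card_congr (subgroupOfEquivOfLe (le_sup_left : B ≤ M)).toEquiv, hcard] at h1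
    rw [Nat.eq_of_mul_eq_mul_left Nat.card_pos h1] at h2
    exact Nat.not_even_iff_odd.2 hN (even_iff_two_dvd.2 h2))
  have hlB : B.map (MulAut.conj l).toMonoidHom ≤ M := by rintro _ ⟨x, hx, rfl⟩; exact hl x hx
  obtain ⟨Q, hQ⟩ := ((hB.map (MulAut.conj l).toMonoidHom).of_equiv (subgroupOfEquivOfLe hlB).symm).exists_le_sylow
  obtain ⟨m, hm⟩ := MulAction.exists_smul_eq M Q P
  have hconj : ∀ x ∈ B, (m : G) * (l * x * l⁻¹) * (m : G)⁻¹ ∈ B := fun x hx => by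
    have h1 : m * ⟨l * x * l⁻¹, hl x hx⟩ * m⁻¹ ∈ (P : Subgroup M) := by
      rw [← hm, Sylow.coe_subgroup_smul]
      exact ⟨⟨l * x * l⁻¹, hl x hx⟩, hQ (mem_subgroupOf.2 ⟨x, hx, rfl⟩), rfl⟩
    exact h1
  obtain ⟨n, hn, b, hb, e⟩ := hfac m m.2
  refine ⟨n, hn, ZStarApps.mem_normalizer_of_maps fun x hx => ?_⟩
  have h2 := mul_mem (mul_mem (inv_mem hb) (hconj x hx)) hb
  rwa [e, show b⁻¹ * (b * n * (l * x * l⁻¹) * (b * n)⁻¹) * b = n * l * x * (n * l)⁻¹ by group] at h2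

/-- Pure: a Sylow subgroup meets a normal subgroup in a Sylow subgroup. -/
theorem exists_sylow_normal {G : Type u} [Group G] [Finite G] (T : Sylow 2 G) (K : Subgroup G) [K.Normal] :
    ∃ P : Sylow 2 K, (P : Subgroup K) = (T : Subgroup G).subgroupOf K := by
  haveI : Fact (Nat.Prime 2) := ⟨Nat.prime_two⟩
  refine ⟨(T.isPGroup'.comap_of_injective K.subtype K.subtype_injective).toSylow ?_, rfl⟩
  show ¬ 2 ∣ (T : Subgroup G).relIndex K
  rw [Cfsg.Lib.Transfer.relIndex_eq_relIndex_sup_of_normal]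
  exact fun h => T.not_dvd_index (h.trans (relIndex_dvd_index_of_le le_sup_left))

variable {G : Type u} [Group G] [Finite G]

/-- The configuration of rank three. -/
structure Cfg (S : Sylow 2 G) (A : Subgroup G) : Prop where
  min : Min S A
  loc : Local A
  three : Three S A

variable {S : Sylow 2 G} {A : Subgroup G}

theorem Cfg.le_cz (c : Cfg S A) {a : G} (ha : a ∈ A) : (S : Subgroup G) ≤ centralizer ({a} : Set G) := fun s hs =>
  mem_centralizer_singleton_iff.2 (mem_centralizer_iff.1 (c.three.cent hs) a ha).symm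

theorem Cfg.le_norm (c : Cfg S A) : (S : Subgroup G) ≤ normalizer (A : Set G) :=
  sylow_le_normalizer c.min.closed

theorem Cfg.mem_za (c : Cfg S A) {a : G} {L : Subgroup G} (hm : Moved A a L) {x : G} :
    x ∈ ZA A a L ↔ x = 1 ∨ x = a := by
  rw [c.three.zA hm]
  refine ⟨fun hx => ?_, ?_⟩
  · obtain ⟨i, rfl⟩ := mem_zpowers_iff.1 hx
    have h2 : a ^ (2 : ℤ) = 1 := by rw [zpow_two, c.min.sq a hm.1]
    rcases Int.even_or_odd' i with ⟨j, rfl | rfl⟩
    · left; rw [zpow_mul, h2, one_zpow]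
    · right; rw [zpow_add, zpow_mul, h2, one_zpow, one_mul, zpow_one]
  · rintro (rfl | rfl)
    · exact one_mem _
    · exact mem_zpowers _

section Layer

variable {a : G} {L : Subgroup G} (c : Cfg S A) (hm : Moved A a L)
include c hm

/-- `N(A) ∩ C(a)` normalises the component. -/
theorem norm_mem {g : G} (hg : g ∈ normalizer (A : Set G)) (hga : g ∈ centralizer ({a} : Set G)) :
    g ∈ normalizer (L : Set G) := by
  have h1 := hm.conj hg
  rw [mem_centralizer_singleton_iff.1 hga, mul_inv_cancel_right] at h1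
  exact mem_normalizer_iff_map_conj_eq.2 (c.three.unique hm h1).symm

theorem cz_le_norm : centralizer ({a} : Set G) ≤ normalizer (L : Set G) := by
  refine (c.loc.generated hm.1 hm.2.1).trans (sup_le (sup_le ?_ (iSup_le fun L' => ?_)) ?_)
  · exact PTerminal.core_le_normalizer (p := 2) hm.2.2.1
  · rw [c.three.unique L'.2 hm]
    exact le_normalizer
  · exact fun g hg => norm_mem c hm hg.1 hg.2

theorem bar_normal : (bar a L).Normal := by
  haveI := normal_subgroupOf_of_le_normalizer (cz_le_norm c hm)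
  exact (inferInstance : (L.subgroupOf (centralizer ({a} : Set G))).Normal).map _ (QuotientGroup.mk'_surjective _)

theorem relIndex_four : (ZA A a L).relIndex A = 4 := by
  have h := relIndex_ZA A a L
  rw [c.three.card, c.three.zA hm, Nat.card_zpowers, c.min.ord_two hm.1 hm.2.1] at h
  rw [c.three.zA hm]
  omega

/-- The elements of `N_L(A)` act on `A` as the powers of the rotation. -/
theorem rot_exact : ∃ r ∈ L, r ∈ normalizer (A : Set G) ∧
    (∀ x ∈ A, r * x * r⁻¹ = x → x ∈ ZA A a L) ∧ (∀ x ∈ A, r * x * r⁻¹ * x⁻¹ = a → False) ∧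
    ∀ g ∈ L, g ∈ normalizer (A : Set G) → ∃ k : ℕ, ∀ x ∈ A, g * x * g⁻¹ = r ^ k * x * (r ^ k)⁻¹ := by
  classical
  obtain ⟨r, hr, hrN, hodd, htr, hsemi, himg⟩ := c.loc.rot hm
  have hfix : ∀ x ∈ A, r * x * r⁻¹ = x → x ∈ ZA A a L := by
    intro x hx e
    by_contra hxZ
    have hall : ∀ y ∈ A, r * y * r⁻¹ = y := fun y hy => by
      simpa using hsemi 1 x hx hxZ (by simpa using e) y hy
    have hpow : ∀ (k : ℕ), ∀ y ∈ A, r ^ k * y * (r ^ k)⁻¹ = y := fun k => by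
      induction k with
      | zero => simp
      | succ k ih =>
        intro y hy
        rw [show r ^ (k + 1) * y * (r ^ (k + 1))⁻¹ = r ^ k * (r * y * r⁻¹) * (r ^ k)⁻¹ by rw [pow_succ]; group,
          hall y hy, ih y hy]
    have hle : A ≤ ZA A a L ⊔ zpowers x := by
      intro y hy
      by_cases hyZ : y ∈ ZA A a L
      · exact mem_sup_left hyZ
      obtain ⟨k, hk⟩ := htr x hx y hy hxZ hyZ
      rw [hpow k x hx] at hk
      have := mul_mem (mem_sup_right (S := ZA A a L) (mem_zpowers x)) (mem_sup_left (T := zpowers x) hk)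
      rwa [mul_inv_cancel_left] at this
    have hcard := Nat.card_le_card_of_surjective
      (fun p : ↥(ZA A a L) × ↥(zpowers x) => (⟨(p.1 : G) * p.2, mul_mem p.1.2.1 (zpowers_le.2 hx p.2.2)⟩ : A))
      fun y => by
        have hn : ZA A a L ≤ normalizer ((zpowers x : Subgroup G) : Set G) := fun v hv =>
          centralizer_le_normalizer _ (mem_centralizer_iff.2 fun z hz =>
            c.min.comm z (zpowers_le.2 hx hz) v hv.1)
        have hy : (y : G) ∈ zpowers x ⊔ ZA A a L := by rw [sup_comm]; exact hle y.2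
        obtain ⟨k, hk, z, hz, e⟩ := (Cfsg.Lib.Coprime.mem_sup_of_le_normalizer' hn).1 hy
        exact ⟨(⟨k, hk⟩, ⟨z, hz⟩), Subtype.ext e⟩
    rw [Nat.card_prod, c.three.card, c.three.zA hm, Nat.card_zpowers, Nat.card_zpowers,
      c.min.ord_two hm.1 hm.2.1, c.min.ord_two hx (fun e1 => hxZ (e1 ▸ one_mem _))] at hcard
    omega
  refine ⟨r, hr, hrN, hfix, fun x hx e => ?_, fun g hg hgN => ?_⟩
  · have haz : r * a = a * r := c.min.fix_ZA hm hr hrN (c.min.self_mem hm)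
    have e1 : r * x * r⁻¹ = a * x := by rw [← e]; group
    have h2 : ∀ j : ℕ, r ^ (2 * j) * x * (r ^ (2 * j))⁻¹ = x := by
      intro j
      induction j with
      | zero => simp
      | succ j ih =>
        rw [show r ^ (2 * (j + 1)) * x * (r ^ (2 * (j + 1)))⁻¹ =
          r * (r * (r ^ (2 * j) * x * (r ^ (2 * j))⁻¹) * r⁻¹) * r⁻¹ by
            rw [show 2 * (j + 1) = 2 * j + 1 + 1 by ring, pow_succ', pow_succ']; group, ih, e1,
          show r * (a * x) * r⁻¹ = (r * a) * x * r⁻¹ by group, haz,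
          show a * r * x * r⁻¹ = a * (r * x * r⁻¹) by group, e1, ← mul_assoc, c.min.sq a hm.1, one_mul]
    obtain ⟨j, hj⟩ := hodd
    have h3 : r * x * r⁻¹ = x := by
      have h4 : r ^ (2 * j + 1) * x * (r ^ (2 * j + 1))⁻¹ = x := by
        rw [← hj, pow_orderOf_eq_one]; simp
      conv_rhs => rw [← h4, pow_succ']
      conv_lhs => rw [← h2 j]
      group
    rw [h3, mul_inv_cancel] at e
    exact hm.2.1 e.symm
  · obtain ⟨k, hk⟩ := (himg g hg hgN).resolve_right fun h8 => by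
      rw [relIndex_four c hm] at h8
      omega
    refine ⟨k, fun x hx => ?_⟩
    have hrk : ∀ z ∈ ZA A a L, (r ^ k)⁻¹ * z * r ^ k ∈ ZA A a L := fun z hz => by
      have hc := c.min.fix_ZA hm (pow_mem hr k) (pow_mem hrN k) hz
      rwa [mul_assoc, ← hc, inv_mul_cancel_left]
    have h1 : ∀ y ∈ A, (r ^ k)⁻¹ * g * y * ((r ^ k)⁻¹ * g)⁻¹ * y⁻¹ ∈ ZA A a L := fun y hy => by
      have hgy : g * y * g⁻¹ ∈ A := (mem_normalizer_iff.1 hgN y).1 hy
      have := hrk _ (hk y hy)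
      rw [inv_eq_of_mul_eq_one_right (c.min.sq _ hgy)] at this
      have hry : r ^ k * y * (r ^ k)⁻¹ ∈ A := (mem_normalizer_iff.1 (pow_mem hrN k) y).1 hy
      rw [show (r ^ k)⁻¹ * (g * y * g⁻¹ * (r ^ k * y * (r ^ k)⁻¹)) * r ^ k =
        (r ^ k)⁻¹ * g * y * ((r ^ k)⁻¹ * g)⁻¹ * y by group] at this
      rwa [inv_eq_of_mul_eq_one_right (c.min.sq y hy)]
    have h2 := ((c.loc.shear hm (mul_mem (inv_mem (pow_mem hr k)) hg) (mul_mem (inv_mem (pow_mem hrN k)) hgN) h1).2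
      (relIndex_four c hm)) x hx
    calc g * x * g⁻¹ = r ^ k * ((r ^ k)⁻¹ * g * x) * g⁻¹ := by group
      _ = r ^ k * (x * ((r ^ k)⁻¹ * g)) * g⁻¹ := by rw [h2]
      _ = _ := by group

omit hm in
theorem card_cz_lt {a : G} (ha : a ∈ A) (ha1 : a ≠ 1) :
    Nat.card ↥(centralizer ({a} : Set G)) < Nat.card G := by
  haveI := c.min.simple
  refine lt_of_le_of_ne (Subgroup.card_le_card_group _) fun e => ?_
  have htop := Subgroup.eq_top_of_card_eq _ e
  rcases IsSimpleGroup.eq_bot_or_eq_top_of_normal (center G) inferInstance with e' | e'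
  · exact ha1 (mem_bot.1 (e' ▸ mem_center_iff.2 fun g =>
      mem_centralizer_singleton_iff.1 (htop ▸ mem_top g)))
  · exact c.min.nonab ⟨⟨fun a b => (mem_center_iff.1 (e' ▸ mem_top b) a)⟩⟩

omit hm in
/-- An element of `S` trivial modulo `O(C(a))` is trivial. -/
theorem eq_one_of_qm {a : G} (ha : a ∈ A) {s : G} (hs : s ∈ (S : Subgroup G))
    (he : qm a ⟨s, c.le_cz ha hs⟩ = 1) : s = 1 := by
  have hm : (⟨s, c.le_cz ha hs⟩ : ↥(centralizer ({a} : Set G))) ∈ (qm a).ker := MonoidHom.mem_ker.2 he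
  obtain ⟨j, hj⟩ := S.isPGroup' ⟨s, hs⟩
  have hj' : s ^ 2 ^ j = 1 := congrArg Subtype.val hj
  refine orderOf_eq_one_iff.1 (Nat.eq_one_of_dvd_coprimes ((Walter.odd_ker_qm a).symm.pow_left j)
    (orderOf_dvd_of_pow_eq_one hj') ?_)
  rw [← Subgroup.orderOf_mk s (c.le_cz ha hs)]
  exact Subgroup.orderOf_dvd_natCard _ hm

/-- `bar` on elements. -/
theorem qm_mem {l : G} (hl : l ∈ L) : qm a ⟨l, hm.2.2.1.1 hl⟩ ∈ bar a L :=
  ⟨⟨l, hm.2.2.1.1 hl⟩, hl, rfl⟩

/-- An element of `S` whose image lies in the image of `L` lies in `L`. -/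
theorem mem_of_qm {s : G} (hs : s ∈ (S : Subgroup G)) (he : qm a ⟨s, c.le_cz hm.1 hs⟩ ∈ bar a L) : s ∈ L := by
  obtain ⟨l, hl, e⟩ := he
  haveI := normal_subgroupOf_of_le_normalizer (cz_le_norm c hm)
  set N := L.subgroupOf (centralizer ({a} : Set G))
  set x : ↥(centralizer ({a} : Set G)) := ⟨s, c.le_cz hm.1 hs⟩
  obtain ⟨j, hj⟩ := S.isPGroup' ⟨s, hs⟩
  have hxj : x ^ 2 ^ j = 1 := Subtype.ext (congrArg Subtype.val hj :)
  have h1 : l⁻¹ * x ∈ (qm a).ker := by rw [MonoidHom.mem_ker, map_mul, map_inv, e, inv_mul_cancel]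
  have h2 : QuotientGroup.mk' N x = QuotientGroup.mk' N (l⁻¹ * x) := by
    rw [map_mul, show QuotientGroup.mk' N l⁻¹ = 1 from (QuotientGroup.eq_one_iff _).2 (inv_mem hl), one_mul]
  have h3 : QuotientGroup.mk' N x = 1 := by
    refine orderOf_eq_one_iff.1 (Nat.eq_one_of_dvd_coprimes ((Walter.odd_ker_qm a).symm.pow_left j) ?_ ?_)
    · exact orderOf_dvd_of_pow_eq_one (by rw [← map_pow, hxj, map_one])
    · rw [h2]
      exact (orderOf_map_dvd _ _).trans (Subgroup.orderOf_dvd_natCard _ h1)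
  exact (QuotientGroup.eq_one_iff x).1 h3

/-- Everything used about the layer at `a`. -/
theorem layer_facts : IsSimpleGroup ↥(bar a L) ∧ ¬ IsMulCommutative ↥(bar a L) ∧ TypedX ↥(bar a L) ∧
    a ∉ L ∧ Nat.card ↥(A ⊓ L) = 4 ∧
    ∃ P : Sylow 2 ↥(bar a L), SimpleFacts P ∧
      (∀ y : ↥(bar a L), y ∈ P ↔ ∃ s, ∃ hs : s ∈ (S : Subgroup G), s ∈ L ∧ (y : Qt a) = qm a ⟨s, c.le_cz hm.1 hs⟩) ∧
      ∀ y : ↥(bar a L), Inv (P : Subgroup ↥(bar a L)) y ↔
        ∃ s, ∃ hs : s ∈ A, s ∈ L ∧ (y : Qt a) = qm a ⟨s, c.le_cz hm.1 (c.min.le hs)⟩ := by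
  classical
  haveI : Fact (Nat.Prime 2) := ⟨Nat.prime_two⟩
  haveI := bar_normal c hm
  set C := centralizer ({a} : Set G)
  set K := bar a L with hK
  have hle := c.le_cz hm.1
  have hcomp : Cfsg.IsComponent K := hm.2.2.1.2.2.1
  let T : Sylow 2 (Qt a) := (S.subtype hle).mapSurjective (QuotientGroup.mk'_surjective _)
  set Ab := (A.subgroupOf C).map (qm a) with hAb
  have hclT : Cfsg.IsStronglyClosed Ab (T : Subgroup (Qt a)) := by
    refine Cfsg.Lib.InvolCalc.stronglyClosed_quotient (S.subtype hle) ⟨fun x hx => c.min.le hx, ?_⟩ _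
    intro x hx g hg
    exact c.min.closed.2 _ hx g hg
  obtain ⟨P, hP⟩ := exists_sylow_normal T K
  have hPmem : ∀ y : K, y ∈ P ↔ ∃ s, ∃ hs : s ∈ (S : Subgroup G), s ∈ L ∧ (y : Qt a) = qm a ⟨s, hle hs⟩ := by
    intro y
    show y ∈ (P : Subgroup K) ↔ _
    rw [hP]
    constructor
    · rintro ⟨x, hx, e⟩
      exact ⟨x, hx, mem_of_qm c hm hx (by show qm a x ∈ K; rw [e]; exact y.2), e.symm⟩
    · rintro ⟨s, hs, -, e⟩
      exact ⟨⟨s, hle hs⟩, hs, e.symm⟩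
  obtain ⟨r, hr, hrN, hrfix, hra, hrimg⟩ := rot_exact c hm
  let δ : ↥A →* G :=
    { toFun := fun x => r * x * r⁻¹ * (x : G)⁻¹
      map_one' := by simp
      map_mul' := fun x y => by
        have hy : r * (y : G) * r⁻¹ * (y : G)⁻¹ ∈ A :=
          mul_mem ((mem_normalizer_iff.1 hrN y).1 y.2) (inv_mem y.2)
        calc r * ((x : G) * y) * r⁻¹ * ((x * y : A) : G)⁻¹
            = r * x * r⁻¹ * (r * y * r⁻¹ * (y : G)⁻¹ * (x : G)⁻¹) := by rw [Subgroup.coe_mul]; group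
          _ = r * x * r⁻¹ * ((x : G)⁻¹ * (r * y * r⁻¹ * (y : G)⁻¹)) := by rw [c.min.comm _ hy _ (inv_mem x.2)]
          _ = _ := by group }
  have hδA : δ.range ≤ A ⊓ L := by
    rintro _ ⟨x, rfl⟩
    refine mem_inf.2 ⟨mul_mem ((mem_normalizer_iff.1 hrN x).1 x.2) (inv_mem x.2), ?_⟩
    show r * x * r⁻¹ * (x : G)⁻¹ ∈ L
    rw [show r * x * r⁻¹ * (x : G)⁻¹ = r * (x * r⁻¹ * (x : G)⁻¹) by group]
    exact mul_mem hr ((mem_normalizer_iff.1 (cz_le_norm c hm (c.min.le_cent hm.1 x.2)) _).1 (inv_mem hr))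
  have hRcard : Nat.card δ.range = 4 := by
    have hker : δ.ker = (ZA A a L).subgroupOf A := by
      ext x
      rw [MonoidHom.mem_ker, mem_subgroupOf]
      refine ⟨fun e => hrfix x x.2 (mul_inv_eq_one.1 e), fun hx => mul_inv_eq_one.2 ?_⟩
      rw [c.min.fix_ZA hm hr hrN hx, mul_inv_cancel_right]
    rw [← Subgroup.index_ker, hker]
    exact relIndex_four c hm
  have hRa : ∀ x ∈ δ.range, x ∈ ZA A a L → x = 1 := by
    rintro _ ⟨x, rfl⟩ hx
    exact ((c.mem_za hm).1 hx).resolve_right fun e => hra x x.2 e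
  have hdec : ∀ x ∈ A, ∃ z ∈ ZA A a L, ∃ y ∈ δ.range, x = z * y := by
    have hn : δ.range ≤ normalizer ((ZA A a L : Subgroup G) : Set G) := fun v hv =>
      centralizer_le_normalizer _ (mem_centralizer_iff.2 fun z hz => c.min.comm z hz.1 v (hδA hv).1)
    let f : ↥(ZA A a L) × δ.range → A := fun p => ⟨(p.1 : G) * p.2, mul_mem p.1.2.1 (hδA p.2.2).1⟩
    have hinj : Function.Injective f := fun p q e => by
      have e' : (p.1 : G) * p.2 = q.1 * q.2 := congrArg Subtype.val e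
      have h2 : (q.1 : G)⁻¹ * p.1 = q.2 * (p.2 : G)⁻¹ := by
        calc (q.1 : G)⁻¹ * p.1 = (q.1 : G)⁻¹ * ((p.1 : G) * p.2) * (p.2 : G)⁻¹ := by group
          _ = _ := by rw [e']; group
      have h3 : (q.2 : G) * (p.2 : G)⁻¹ = 1 :=
        hRa _ (mul_mem q.2.2 (inv_mem p.2.2)) (h2 ▸ mul_mem (inv_mem q.1.2) p.1.2)
      refine Prod.ext (Subtype.ext ?_) (Subtype.ext (mul_inv_eq_one.1 h3).symm)
      rw [h3] at h2
      exact (inv_mul_eq_one.1 h2).symm
    have hsur : Function.Surjective f := ((Nat.bijective_iff_injective_and_card f).2 ⟨hinj, by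
      rw [Nat.card_prod, hRcard, c.three.card, c.three.zA hm, Nat.card_zpowers, c.min.ord_two hm.1 hm.2.1]⟩).2
    intro x hx
    obtain ⟨p, hp⟩ := hsur ⟨x, hx⟩
    exact ⟨p.1, p.1.2, p.2, p.2.2, (congrArg Subtype.val hp).symm⟩
  -- the subgroups of `K`
  set R₀ := Ab.subgroupOf K with hR₀
  set R := ((δ.range.subgroupOf C).map (qm a)).subgroupOf K with hR
  have hR₀mem : ∀ y : K, y ∈ R₀ ↔ ∃ s, ∃ hs : s ∈ A, s ∈ L ∧ (y : Qt a) = qm a ⟨s, hle (c.min.le hs)⟩ := by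
    intro y
    constructor
    · rintro ⟨x, hx, e⟩
      exact ⟨x, hx, mem_of_qm c hm (c.min.le hx) (by show qm a x ∈ K; rw [e]; exact y.2), e.symm⟩
    · rintro ⟨s, hs, -, e⟩
      exact ⟨⟨s, hle (c.min.le hs)⟩, hs, e.symm⟩
  have hcl : Cfsg.IsStronglyClosed R₀ (P : Subgroup K) := by
    rw [hP]
    refine ⟨fun y hy => hclT.1 hy, fun y hy g hg => ?_⟩
    exact hclT.2 _ hy (g : Qt a) hg
  have hRR₀ : R ≤ R₀ := by
    rintro y ⟨x, hx, e⟩
    exact ⟨x, (hδA hx).1, e⟩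
  have hcen : ∀ z (hz : z ∈ ZA A a L), ∀ y ∈ K, Commute (qm a ⟨z, hle (c.min.le hz.1)⟩) y := by
    rintro z hz _ ⟨l, -, rfl⟩
    refine Commute.map ?_ (qm a)
    have hza : z = 1 ∨ z = a := (c.mem_za hm).1 hz
    refine Subtype.ext ?_
    rcases hza with rfl | rfl
    · simp
    · exact (mem_centralizer_singleton_iff.1 l.2).symm
  have hsup : R₀ ≤ R ⊔ center ↥K := by
    intro y hy
    obtain ⟨s, hs, hsL, e⟩ := (hR₀mem y).1 hy
    obtain ⟨z, hz, ρ, hρ, rfl⟩ := hdec s hs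
    have hρA := hδA hρ
    set ρ' : K := ⟨qm a ⟨ρ, hle (c.min.le hρA.1)⟩, qm_mem c hm hρA.2⟩
    have h1 : y * ρ'⁻¹ ∈ center K := mem_center_iff.2 fun k => Subtype.ext (by
      show (k : Qt a) * ((y : Qt a) * (ρ' : Qt a)⁻¹) = (y : Qt a) * (ρ' : Qt a)⁻¹ * k
      rw [e, show (ρ' : Qt a)⁻¹ = qm a (⟨ρ, hle (c.min.le hρA.1)⟩⁻¹) from (map_inv _ _).symm, ← map_mul,
        show (⟨z * ρ, hle (c.min.le hs)⟩ : C) * ⟨ρ, hle (c.min.le hρA.1)⟩⁻¹ = ⟨z, hle (c.min.le hz.1)⟩ from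
          Subtype.ext (mul_inv_cancel_right z ρ)]
      exact (hcen z hz k k.2).symm.eq)
    have h2 : ρ' ∈ R := ⟨⟨ρ, hle (c.min.le hρA.1)⟩, hρ, rfl⟩
    have := mul_mem (mem_sup_right (S := R) h1) (mem_sup_left (T := center ↥K) h2)
    rwa [inv_mul_cancel_right] at this
  have hsq₀ : ∀ y ∈ R₀, y * y = 1 := fun y hy => by
    obtain ⟨s, hs, -, e⟩ := (hR₀mem y).1 hy
    refine Subtype.ext ?_
    show (y : Qt a) * y = 1
    rw [e, ← map_mul, show (⟨s, hle (c.min.le hs)⟩ : C) * ⟨s, hle (c.min.le hs)⟩ = 1 from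
      Subtype.ext (c.min.sq s hs), map_one]
  have havoid : R ⊓ center ↥K = ⊥ := eq_bot_iff.2 fun y hy => by
    obtain ⟨⟨x, hx, e⟩, hyc⟩ := mem_inf.1 hy
    have hxR : (x : G) ∈ δ.range := hx
    have hZ : (x : G) ∈ ZA A a L := by
      refine (mem_ZA hm).2 ⟨(hδA hxR).1, x.2, fun l hl => ?_⟩
      have h := congrArg Subtype.val (mem_center_iff.1 hyc ⟨_, qm_mem c hm hl⟩)
      refine Walter.mem_Oc.2 ⟨mul_mem (mul_mem (mul_mem (hm.2.2.1.1 hl) x.2) (inv_mem (hm.2.2.1.1 hl))) (inv_mem x.2), ?_⟩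
      rw [show (⟨⁅l, (x : G)⁆, _⟩ : C) = ⁅(⟨l, hm.2.2.1.1 hl⟩ : C), x⁆ from rfl, map_commutatorElement,
        commutatorElement_eq_one_iff_mul_comm, e]
      exact h
    refine mem_bot.2 (Subtype.ext ?_)
    rw [show (y : Qt a) = qm a x from e.symm, show x = 1 from Subtype.ext (hRa _ hxR hZ), map_one]
    rfl
  have hne : R ≠ ⊥ := by
    intro e
    haveI : Nontrivial δ.range := Finite.one_lt_card_iff_nontrivial.1 (by rw [hRcard]; norm_num)
    obtain ⟨⟨ρ, hρ⟩, hρ1⟩ := exists_ne (1 : δ.range)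
    have hρA := hδA hρ
    have h1 : (⟨qm a ⟨ρ, hle (c.min.le hρA.1)⟩, qm_mem c hm hρA.2⟩ : K) ∈ R :=
      ⟨⟨ρ, hle (c.min.le hρA.1)⟩, hρ, rfl⟩
    rw [e, mem_bot, Subtype.ext_iff] at h1
    exact hρ1 (Subtype.ext (eq_one_of_qm c hm.1 (c.min.le hρA.1) h1))
  have h2 : IsPGroup 2 (center ↥K) := by
    refine ((isPGroup_pCore 2 (G := Qt a)).to_le (center_component_le_pCore (p := 2)
      pPrimeCore_quotient_eq_bot hcomp)).of_injective (⟨⟨fun z => ⟨((z : K) : Qt a), (z : K).2,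
        mem_centralizer_iff.2 fun y hy => congrArg Subtype.val (mem_center_iff.1 z.2 ⟨y, hy⟩)⟩, rfl⟩,
        fun _ _ => rfl⟩ : ↥(center ↥K) →* ↥(K ⊓ centralizer (K : Set (Qt a)))) ?_
    exact fun z z' e => Subtype.ext (Subtype.ext (congrArg Subtype.val e :))
  have hlt : Nat.card ↥K < Nat.card G := lt_of_le_of_lt ((Subgroup.card_le_card_group K).trans
    (Nat.card_le_card_of_surjective _ (QuotientGroup.mk'_surjective _))) (card_cz_lt c hm.1 hm.2.1)
  have hcent₀ : ∀ y ∈ R₀, ∀ x ∈ P, y * x = x * y := fun y hy x hx => by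
    obtain ⟨s, hs, -, e⟩ := (hR₀mem y).1 hy
    obtain ⟨s', hs', -, e'⟩ := (hPmem x).1 hx
    refine Subtype.ext ?_
    show (y : Qt a) * x = x * y
    rw [e, e', ← map_mul, ← map_mul]
    exact congrArg (qm a) (Subtype.ext (mem_centralizer_iff.1 (c.three.cent hs') s hs))
  have hnorm : ∀ g : K, (∀ x ∈ R₀, g * x * g⁻¹ ∈ R₀) → ∀ ρ ∈ R, g * ρ * g⁻¹ ∈ R := by
    rintro ⟨g, hgK⟩ hg ρ' ⟨x, hx, e⟩
    obtain ⟨l, hl, rfl⟩ := id hgK
    have hlL : (l : G) ∈ L := hl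
    have hLN : L ≤ normalizer ((Oc a ⊓ L : Subgroup G) : Set G) := fun y hy =>
      ZStarApps.mem_normalizer_of_maps fun o ho => mem_inf.2
        ⟨(mem_normalizer_iff.1 (PTerminal.le_normalizer_core (p := 2) _ (hm.2.2.1.1 hy)) o).1 ho.1,
          mul_mem (mul_mem hy ho.2) (inv_mem hy)⟩
    have hlB : ∀ x ∈ A ⊓ L, (l : G) * x * (l : G)⁻¹ ∈ (A ⊓ L) ⊔ (Oc a ⊓ L) := by
      rintro x ⟨hxA, hxL⟩
      obtain ⟨x', hx', hx'L, e'⟩ := (hR₀mem _).1 (hg ⟨_, qm_mem c hm hxL⟩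
        ((hR₀mem _).2 ⟨x, hxA, hxL, rfl⟩))
      have hy : x'⁻¹ * ((l : G) * x * (l : G)⁻¹) ∈ Oc a ⊓ L := by
        refine mem_inf.2 ⟨Walter.mem_Oc.2 ⟨mul_mem (inv_mem (hle (c.min.le hx')))
          (mul_mem (mul_mem l.2 (hm.2.2.1.1 hxL)) (inv_mem l.2)), ?_⟩,
          mul_mem (inv_mem hx'L) (mul_mem (mul_mem hlL hxL) (inv_mem hlL))⟩
        have e'' : qm a l * qm a ⟨x, hm.2.2.1.1 hxL⟩ * (qm a l)⁻¹ = qm a ⟨x', hle (c.min.le hx')⟩ := e'
        rw [show (⟨x'⁻¹ * ((l : G) * x * (l : G)⁻¹), _⟩ : C) =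
          (⟨x', hle (c.min.le hx')⟩ : C)⁻¹ * (l * ⟨x, hm.2.2.1.1 hxL⟩ * l⁻¹) from rfl, map_mul, map_inv,
          map_mul, map_mul, map_inv, e'', inv_mul_cancel]
      have h3 := mul_mem (mem_sup_left (T := Oc a ⊓ L) (mem_inf.2 ⟨hx', hx'L⟩)) (mem_sup_right (S := A ⊓ L) hy)
      rwa [mul_inv_cancel_left] at h3
    obtain ⟨o, ho, hn⟩ := exists_norm_lift ((S.isPGroup'.to_le c.min.le).to_le inf_le_left)
      ((odd_oc a).of_dvd_nat (card_dvd_of_le inf_le_left)) (inf_le_right.trans hLN) hlB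
    set g' := o * (l : G) with hg'
    have hg'L : g' ∈ L := mul_mem ho.2 hlL
    have hg'N : g' ∈ normalizer (A : Set G) := ZStarApps.mem_normalizer_of_maps fun y hy => by
      obtain ⟨z, hz, η, hη, rfl⟩ := hdec y hy
      rw [← _root_.conj_mul]
      refine mul_mem ?_ ((mem_normalizer_iff.1 hn η).1 (hδA hη)).1
      rcases (c.mem_za hm).1 hz with rfl | rfl
      · simp
      · rw [mem_centralizer_singleton_iff.1 (hm.2.2.1.1 hg'L), mul_inv_cancel_right]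
        exact hm.1
    obtain ⟨k, hk⟩ := hrimg g' hg'L hg'N
    obtain ⟨y, hy⟩ : (x : G) ∈ δ.range := hx
    have hrk : r ^ k * (x : G) * (r ^ k)⁻¹ ∈ δ.range := by
      refine ⟨⟨r ^ k * y * (r ^ k)⁻¹, (mem_normalizer_iff.1 (pow_mem hrN k) y).1 y.2⟩, ?_⟩
      show r * (r ^ k * y * (r ^ k)⁻¹) * r⁻¹ * (r ^ k * y * (r ^ k)⁻¹)⁻¹ = r ^ k * (x : G) * (r ^ k)⁻¹
      rw [← hy]
      show _ = r ^ k * (r * y * r⁻¹ * (y : G)⁻¹) * (r ^ k)⁻¹
      group
    refine ⟨⟨_, hle (c.min.le (hδA hrk).1)⟩, hrk, ?_⟩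
    have hob : qm a ⟨o, hm.2.2.1.1 ho.2⟩ = 1 := (Walter.mem_Oc.1 ho.1).2
    have e2 : (⟨r ^ k * (x : G) * (r ^ k)⁻¹, hle (c.min.le (hδA hrk).1)⟩ : C) =
        ⟨g', hm.2.2.1.1 hg'L⟩ * x * ⟨g', hm.2.2.1.1 hg'L⟩⁻¹ :=
      Subtype.ext (hk x (hδA (⟨y, hy⟩ : (x : G) ∈ δ.range)).1).symm
    rw [e2, map_mul, map_mul, map_inv, e,
      show (⟨g', hm.2.2.1.1 hg'L⟩ : C) = ⟨o, hm.2.2.1.1 ho.2⟩ * l from rfl, map_mul, hob, one_mul]
    rfl
  have hZ : center ↥K = ⊥ := center_eq_bot_of_closed c.min.below hlt hcomp.2 h2 P R₀ R hRR₀ hcl hsup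
    (fun y hy => hsq₀ y (hRR₀ hy)) (fun y hy => hcent₀ y (hRR₀ hy)) havoid hne hnorm
  have hsimple : IsSimpleGroup ↥K := by
    haveI := hcomp.2.2
    exact (QuotientGroup.quotientBot.symm.trans (QuotientGroup.quotientMulEquivOfEq hZ.symm)).isSimpleGroup
  haveI := hsimple
  have hna : ¬ IsMulCommutative ↥K := comp_not_isMulCommutative hcomp
  have hR₀ne : R₀ ≠ ⊥ := fun e => hne (eq_bot_iff.2 (hRR₀.trans e.le))
  have ht : TypedX ↥K := c.min.below ↥K hna P R₀ hR₀ne (fun x hx y hy => hcent₀ x hx y (hcl.1 hy)) hcl hlt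
  have haL : a ∉ L := fun haL => by
    have hc : (⟨_, qm_mem c hm haL⟩ : K) ∈ center K := mem_center_iff.2 fun k =>
      Subtype.ext (hcen a (c.min.self_mem hm) k k.2).symm.eq
    rw [hZ, mem_bot, Subtype.ext_iff] at hc
    exact hm.2.1 (eq_one_of_qm c hm.1 (c.min.le hm.1) hc)
  have hAL : A ⊓ L = δ.range := by
    refine le_antisymm (fun x hx => ?_) hδA
    obtain ⟨z, hz, ρ, hρ, rfl⟩ := hdec x hx.1
    rcases (c.mem_za hm).1 hz with rfl | rfl
    · rwa [one_mul]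
    · refine absurd ?_ haL
      have := mul_mem (mem_inf.1 hx).2 (inv_mem (mem_inf.1 (hδA hρ)).2)
      rwa [mul_inv_cancel_right] at this
  refine ⟨hsimple, hna, ht, haL, hAL ▸ hRcard, P, simpleFacts_of_typed hna ht P, hPmem, fun y => ?_⟩
  rw [inv_iff (simpleFacts_of_typed hna ht P) hcl hsq₀ hR₀ne]
  exact hR₀mem y

end Layer

end Cfsg.Lib.Goldschmidt.R3
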