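import Cfsg.Agent.Goldschmidt.Three.Sylow
import Cfsg.Agent.Goldschmidt.S1.Quot
import Cfsg.Agent.Goldschmidt.S1.Balance
import Cfsg.Agent.BenderSE.Inverted

/-!
Rank three: the central involution `i` outside `A`. Its centraliser covers every component and has no small moved
component, so `O(C(b)) ∩ C(i) ≤ O(C(i))`.
-/

set_option autoImplicit false
set_option linter.unusedSectionVars false
set_option linter.style.haveILetI false

namespace Cfsg.Lib.Goldschmidt.R3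

open Subgroup Cfsg.Lib.Components
open scoped commutatorElement
open Cfsg.Lib.Walter (IsComp Triv Oc Qt qm bar)
open Cfsg.Lib.Components.PTerminal (Cent mem_cent)

universe u

variable {G : Type u} [Group G] [Finite G]

/-- The data of the second half. -/
structure Central (S : Sylow 2 G) (A : Subgroup G) (i : G) : Prop extends Cfg S A where
  mem : i ∈ (S : Subgroup G)
  out : i ∉ A
  two : orderOf i = 2
  comm : ∀ x ∈ (S : Subgroup G), i * x = x * i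
  act : ∀ {b K}, Moved A b K → i ∈ Cent 2 (centralizer ({b} : Set G)) K

theorem Cfg.exists_central {S : Sylow 2 G} {A : Subgroup G} (c : Cfg S A) : ∃ i, Central S A i := by
  obtain ⟨i, h1, h2, h3, h4, h5⟩ := exists_c c
  exact ⟨i, c, h1, h2, h3, h4, @h5⟩

variable {S : Sylow 2 G} {A : Subgroup G} {i : G} {a : G} {L : Subgroup G} (h : Central S A i)
include h

namespace Central

theorem sq : i * i = 1 := by rw [← pow_two, ← h.two, pow_orderOf_eq_one]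

theorem ne_one : i ≠ 1 := fun e => by have := h.two; rw [e, orderOf_one] at this; omega

theorem commA {x : G} (hx : x ∈ A) : i * x = x * i := h.comm x (h.min.le hx)

theorem le_ci : A ≤ centralizer ({i} : Set G) := fun x hx =>
  mem_centralizer_singleton_iff.2 (h.commA hx).symm

theorem mem_cz (ha : a ∈ A) : i ∈ centralizer ({a} : Set G) := mem_centralizer_singleton_iff.2 (h.commA ha)

theorem loc_i : Goldschmidt.Loc S A i := ⟨h.min, h.le_ci, h.ne_one⟩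

variable (hm : Moved A a L)
include hm

theorem conj_core {l : G} (hl : l ∈ L) : i * l * i⁻¹ * l⁻¹ ∈ Oc a ⊓ L := by
  have h1 : ⁅l, i⁆ ∈ Oc a := ((mem_cent hm.2.2.1.1).1 (h.act hm)).2 l hl
  refine mem_inf.2 ⟨?_, mul_mem ((mem_normalizer_iff.1 (cz_le_norm h.toCfg hm (h.mem_cz hm.1)) l).1 hl) (inv_mem hl)⟩
  rw [show i * l * i⁻¹ * l⁻¹ = ⁅l, i⁆⁻¹ by rw [commutatorElement_def]; group]
  exact inv_mem h1

/-- `C(i)` covers the component. -/
theorem cover {l : G} (hl : l ∈ L) : ∃ o ∈ Oc a ⊓ L, l * o ∈ centralizer ({i} : Set G) := by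
  have hiN : ∀ d ∈ Oc a ⊓ L, i * d * i⁻¹ ∈ Oc a ⊓ L := fun d hd => mem_inf.2
    ⟨(mem_normalizer_iff.1 (PTerminal.le_normalizer_core (p := 2) _ (h.mem_cz hm.1)) d).1 (mem_inf.1 hd).1,
      (mem_normalizer_iff.1 (cz_le_norm h.toCfg hm (h.mem_cz hm.1)) d).1 (mem_inf.1 hd).2⟩
  have hk : l⁻¹ * i * l * i⁻¹ ∈ Oc a ⊓ L := by
    have h1 := h.conj_core hm hl
    refine mem_inf.2 ⟨?_, ?_⟩
    · have := (mem_normalizer_iff.1 (PTerminal.le_normalizer_core (p := 2) _ (inv_mem (hm.2.2.1.1 hl))) _).1 (mem_inf.1 h1).1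
      rwa [inv_inv, show l⁻¹ * (i * l * i⁻¹ * l⁻¹) * l = l⁻¹ * i * l * i⁻¹ by group] at this
    · rw [show l⁻¹ * i * l * i⁻¹ = l⁻¹ * (i * l * i⁻¹) by group]
      exact mul_mem (inv_mem hl) ((mem_normalizer_iff.1 (cz_le_norm h.toCfg hm (h.mem_cz hm.1)) l).1 hl)
  obtain ⟨d, hd, hc⟩ := Walter.R3.exists_commute_mul h.sq
    ((odd_oc a).of_dvd_nat (card_dvd_of_le inf_le_left)) hiN hk
  exact ⟨d, hd, mem_centralizer_singleton_iff.2 hc⟩

/-- A rotation centralising `i`. -/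
theorem exists_rot : ∃ r, r ∈ normalizer (A : Set G) ∧ r ∈ centralizer ({i} : Set G) ∧
    ∀ x ∈ A, r * x * r⁻¹ = x → x ∈ ZA A a L := by
  obtain ⟨r, hr, hrN, hfix, -, -⟩ := rot_exact h.toCfg hm
  set C := centralizer ({a} : Set G)
  have hrC : r ∈ C := hm.2.2.1.1 hr
  have hiA : i ∈ normalizer (A : Set G) := h.toCfg.le_norm h.mem
  set D := Oc a ⊓ normalizer (A : Set G)
  have hiN : ∀ d ∈ D, i * d * i⁻¹ ∈ D := fun d hd => mem_inf.2
    ⟨(mem_normalizer_iff.1 (PTerminal.le_normalizer_core (p := 2) _ (h.mem_cz hm.1)) d).1 (mem_inf.1 hd).1,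
      mul_mem (mul_mem hiA (mem_inf.1 hd).2) (inv_mem hiA)⟩
  have hk : r⁻¹ * i * r * i⁻¹ ∈ D := by
    refine mem_inf.2 ⟨?_, mul_mem (mul_mem (mul_mem (inv_mem hrN) hiA) hrN) (inv_mem hiA)⟩
    have := (mem_normalizer_iff.1 (PTerminal.le_normalizer_core (p := 2) _ (inv_mem hrC)) _).1
      (mem_inf.1 (h.conj_core hm hr)).1
    rwa [inv_inv, show r⁻¹ * (i * r * i⁻¹ * r⁻¹) * r = r⁻¹ * i * r * i⁻¹ by group] at this
  obtain ⟨d, hd, hc⟩ := Walter.R3.exists_commute_mul h.sq ((odd_oc a).of_dvd_nat (card_dvd_of_le inf_le_left)) hiN hk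
  obtain ⟨hdO, hdN⟩ := mem_inf.1 hd
  -- `d` centralises `A`
  have hdA : ∀ x ∈ A, d * x * d⁻¹ = x := fun x hx => by
    refine mul_inv_eq_one.1 (h.min.eq_one_core (b := a) (mul_mem ((mem_normalizer_iff.1 hdN x).1 hx) (inv_mem hx)) ?_)
    rw [show d * x * d⁻¹ * x⁻¹ = d * (x * d⁻¹ * x⁻¹) by group]
    exact mul_mem hdO ((mem_normalizer_iff.1 (PTerminal.le_normalizer_core (p := 2) _ (h.min.le_cent hm.1 hx)) _).1
      (inv_mem hdO))
  refine ⟨r * d, mul_mem hrN hdN, mem_centralizer_singleton_iff.2 hc, fun x hx e => hfix x hx ?_⟩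
  rwa [show r * d * x * (r * d)⁻¹ = r * (d * x * d⁻¹) * r⁻¹ by group, hdA x hx] at e

omit hm in
/-- No moved component of `C(i)` is small. -/
theorem not_small {K : Subgroup (Qt i)} (hK : Cfsg.IsComponent K) (hmov : Mov (Walter.bar i A) K) :
    ¬ Small (↥K ⧸ center ↥K) := by
  classical
  haveI : Fact (Nat.Prime 2) := ⟨Nat.prime_two⟩
  intro hs
  have hl := h.loc_i
  have hcf := hl.coreFree
  set Ab := Walter.bar i A with hAb
  obtain ⟨P, D⟩ := hcf.data hK hmov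
  have hidx : (Ab ⊓ centralizer (K : Set (Qt i))).relIndex Ab = 4 := (hcf.small_elem hK hmov D hs).2.1
  have h8 : Nat.card Ab = 8 := by
    rw [← h.three.card]
    refine (Nat.card_congr (Equiv.ofBijective (fun x : A => (⟨qm i ⟨x, h.le_ci x.2⟩,
      hl.mem_barA.2 ⟨x, x.2, rfl⟩⟩ : Ab)) ⟨fun x y e => Subtype.ext ?_, fun q => ?_⟩)).symm
    · exact hl.inj x.2 y.2 (congrArg Subtype.val e)
    · obtain ⟨s, hs', e⟩ := hl.mem_barA.1 q.2
      exact ⟨⟨s, hs'⟩, Subtype.ext e⟩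
  have hcardZ : ∀ {K' : Subgroup (Qt i)} (n : ℕ), (Ab ⊓ centralizer (K' : Set (Qt i))).relIndex Ab = n →
      Nat.card ↥(Ab ⊓ centralizer (K' : Set (Qt i))) * n = 8 := fun {K'} n e => by
    have h1 := Subgroup.relIndex_mul_relIndex ⊥ (Ab ⊓ centralizer (K' : Set (Qt i))) Ab bot_le inf_le_left
    rw [relIndex_bot_left, relIndex_bot_left, e, h8] at h1
    exact h1
  have hZ2 : Nat.card ↥(Ab ⊓ centralizer (K : Set (Qt i))) = 2 := by
    have := hcardZ 4 hidx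
    omega
  obtain ⟨z, hz, hz1⟩ := (bot_or_exists_ne_one (Ab ⊓ centralizer (K : Set (Qt i)))).resolve_left
    fun e => by rw [e, card_bot] at hZ2; omega
  obtain ⟨v, hv, rfl⟩ := hl.mem_barA.1 (mem_inf.1 hz).1
  have hv1 : v ≠ 1 := fun e => hz1 (by
    rw [show (⟨v, hl.cent hv⟩ : ↥(centralizer ({i} : Set G))) = 1 from Subtype.ext e, map_one])
  -- an element of `N(A)` moving the involution
  obtain ⟨n, hnN, hnC, hne⟩ : ∃ n ∈ normalizer (A : Set G), n ∈ centralizer ({i} : Set G) ∧ n * v * n⁻¹ ≠ v := by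
    obtain ⟨L₁, hm₁⟩ := exists_L h.toCfg hv hv1
    haveI : Nontrivial ↥(A ⊓ L₁) := Finite.one_lt_card_iff_nontrivial.1
      (by rw [(layer_facts h.toCfg hm₁).2.2.2.2.1]; norm_num)
    obtain ⟨⟨p, hp⟩, hp1⟩ := exists_ne (1 : ↥(A ⊓ L₁))
    obtain ⟨Lp, hmp⟩ := exists_L h.toCfg (mem_inf.1 hp).1 (fun e => hp1 (Subtype.ext e))
    obtain ⟨n, hnN, hnC, hfix⟩ := h.exists_rot hmp
    refine ⟨n, hnN, hnC, fun e => ?_⟩
    rcases (h.toCfg.mem_za hmp).1 (hfix v hv e) with e' | e'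
    · exact hv1 e'
    · exact (layer_facts h.toCfg hm₁).2.2.2.1 (e' ▸ (mem_inf.1 hp).2)
  set q := qm i ⟨n, hnC⟩
  set K' := K.map (MulAut.conj q).toMonoidHom with hK'
  have hK'c : Cfsg.IsComponent K' := Cfsg.Lib.Components.comp_conj hK q
  have hqA : ∀ x ∈ Ab, q * x * q⁻¹ ∈ Ab := by
    intro x hx
    obtain ⟨s, hs', rfl⟩ := hl.mem_barA.1 hx
    exact hl.mem_barA.2 ⟨n * s * n⁻¹, (mem_normalizer_iff.1 hnN s).1 hs', by
      rw [← map_inv, ← map_mul, ← map_mul]; rfl⟩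
  have hzK' : qm i ⟨n * v * n⁻¹, hl.cent ((mem_normalizer_iff.1 hnN v).1 hv)⟩ ∈ centralizer (K' : Set (Qt i)) := by
    refine mem_centralizer_iff.2 ?_
    rintro _ ⟨k, hk, rfl⟩
    rw [show (⟨n * v * n⁻¹, _⟩ : ↥(centralizer ({i} : Set G))) = ⟨n, hnC⟩ * ⟨v, hl.cent hv⟩ * ⟨n, hnC⟩⁻¹ from rfl,
      map_mul, map_mul, map_inv]
    show q * k * q⁻¹ * (q * _ * q⁻¹) = q * _ * q⁻¹ * (q * k * q⁻¹)
    rw [_root_.conj_mul, _root_.conj_mul, mem_centralizer_iff.1 (mem_inf.1 hz).2 k hk]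
  have hK'm : Mov Ab K' := fun hle => hmov fun x hx => by
    have h1 := hle (hqA x hx)
    refine mem_centralizer_iff.2 fun k hk => ?_
    have h2 := mem_centralizer_iff.1 h1 (q * k * q⁻¹) ⟨k, hk, rfl⟩
    rw [_root_.conj_mul, _root_.conj_mul] at h2
    exact mul_left_cancel (mul_right_cancel h2)
  have hKne : K' ≠ K := fun e => by
    rw [e] at hzK'
    have hsame : qm i ⟨n * v * n⁻¹, hl.cent ((mem_normalizer_iff.1 hnN v).1 hv)⟩ = qm i ⟨v, hl.cent hv⟩ := by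
      have hzc : qm i ⟨n * v * n⁻¹, hl.cent ((mem_normalizer_iff.1 hnN v).1 hv)⟩ ∈
          Ab ⊓ centralizer (K : Set (Qt i)) :=
        mem_inf.2 ⟨hl.mem_barA.2 ⟨_, (mem_normalizer_iff.1 hnN v).1 hv, rfl⟩, hzK'⟩
      by_contra hne'
      have h3 : 3 ≤ Nat.card ↥(Ab ⊓ centralizer (K : Set (Qt i))) := by
        have hne1 : qm i ⟨n * v * n⁻¹, hl.cent ((mem_normalizer_iff.1 hnN v).1 hv)⟩ ≠ 1 := fun e1 =>
          hv1 (conj_eq_one_iff.1 (hl.qm_eq_one ((mem_normalizer_iff.1 hnN v).1 hv) e1))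
        have hsub : ({1, qm i ⟨v, hl.cent hv⟩, qm i ⟨n * v * n⁻¹, hl.cent ((mem_normalizer_iff.1 hnN v).1 hv)⟩} :
            Set (Qt i)) ⊆ (Ab ⊓ centralizer (K : Set (Qt i)) : Subgroup (Qt i)) := by
          rintro x (rfl | rfl | rfl)
          exacts [one_mem _, hz, hzc]
        have h4 := Set.ncard_le_ncard hsub (Set.toFinite _)
        rwa [Set.ncard_eq_three.2 ⟨_, _, _, Ne.symm hz1, Ne.symm hne1, Ne.symm hne', rfl⟩,
          ← Nat.card_coe_set_eq] at h4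
      omega
    exact hne (hl.inj ((mem_normalizer_iff.1 hnN v).1 hv) hv hsame)
  have hcomm := commutator_eq_bot_iff_le_centralizer.1 (comp_commute hK'c hK hKne)
  -- `Ab ⊓ K'` is too large
  have hle : Ab ⊓ K' ≤ Ab ⊓ centralizer (K : Set (Qt i)) := inf_le_inf le_rfl hcomm
  have h4' := hcf.four_le_index hK'c hK'm
  have hsur : Nat.card Ab ≤ Nat.card ↥(Ab ⊓ K') * Nat.card ↥(Ab ⊓ centralizer (K' : Set (Qt i))) := by
    rw [← Nat.card_prod]
    refine Nat.card_le_card_of_surjective (fun p : ↥(Ab ⊓ K') × ↥(Ab ⊓ centralizer (K' : Set (Qt i))) =>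
      (⟨(p.1 : Qt i) * p.2, mul_mem (mem_inf.1 p.1.2).1 (mem_inf.1 p.2.2).1⟩ : Ab)) fun x => ?_
    obtain ⟨w, hwA, hwL, hwc⟩ := hcf.exists_inner hK'c hK'm x.2
    exact ⟨(⟨w, mem_inf.2 ⟨hwA, hwL⟩⟩, ⟨w⁻¹ * x, mem_inf.2 ⟨mul_mem (inv_mem hwA) x.2, hwc⟩⟩),
      Subtype.ext (mul_inv_cancel_left _ _)⟩
  have h5 := Subgroup.card_le_of_le hle
  have h6 := hcardZ (K' := K') _ rfl
  rw [h8] at hsur
  nlinarith

omit hm in
/-- The key: the cores at `A` meet `C(i)` inside the core at `i`. -/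
theorem core_ci {b x : G} (hb : b ∈ A) (hx : x ∈ Oc b) (hxi : x ∈ centralizer ({i} : Set G)) : x ∈ Oc i := by
  have hl := h.loc_i
  have h1 := hl.core_image hb hx hxi
  have h2 := hl.coreFree.faith (hl.mem_barA.2 ⟨b, hb, rfl⟩) h1 fun K hK hm' =>
    hl.coreFree.core_moved (hl.mem_barA.2 ⟨b, hb, rfl⟩) hK hm' (h.not_small hK hm') h1
  exact Walter.mem_Oc.2 ⟨hxi, h2⟩

end Central

end Cfsg.Lib.Goldschmidt.R3
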