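import Cfsg.Agent.Goldschmidt.S1.Types
import Cfsg.Agent.BenderSE.Dependents.CoverKill

/-!
A quasisimple group below the counterexample in which a strongly closed elementary subgroup avoids the centre:
the centre has no 2-part, and the strongly closed subgroup consists of the involutions of the Sylow subgroup.
-/

set_option autoImplicit false
set_option linter.unusedSectionVars false
set_option linter.style.haveILetI false

namespace Cfsg.Lib.Goldschmidt.R3

open Subgroup Cfsg.Lib.Components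

universe u

variable {X : Type u} [Group X] [Finite X]

/-- An abelian Sylow subgroup of a simple group is elementary. -/
theorem sq_of_abTwo [IsSimpleGroup X] (hna : ¬ IsMulCommutative X) (hab : Walter.AbTwo X) (P : Sylow 2 X) :
    ∀ x ∈ P, x * x = 1 := by
  haveI : Fact (Nat.Prime 2) := ⟨Nat.prime_two⟩
  rcases Walter.walterProp X hna hab with hb | hsm | hJ
  · exact (Walter.binary_facts hb P).2.1
  · obtain ⟨F, iF, iFt, h5, K⟩ := small_top hsm
    haveI hK := small_klein K hab P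
    exact fun x hx => congrArg Subtype.val (GWFour.sq_of_klein (⟨x, hx⟩ : ↥(P : Subgroup X)))
  · exact ((Walter.jr_facts hna hab hJ).1 P).2.1

/-- A strongly closed elementary subgroup of the Sylow subgroup contains all its involutions. -/
theorem inv_iff {P : Sylow 2 X} (hF : SimpleFacts P) {R : Subgroup X}
    (hcl : Cfsg.IsStronglyClosed R (P : Subgroup X)) (hsq : ∀ x ∈ R, x * x = 1) (hne : R ≠ ⊥) {i : X} :
    Inv (P : Subgroup X) i ↔ i ∈ R := by
  refine ⟨fun hi => ?_, fun hi => ⟨hcl.1 hi, hsq i hi⟩⟩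
  by_cases hi1 : i = 1
  · rw [hi1]; exact one_mem R
  obtain ⟨r₀, hr₀, hr1⟩ := (bot_or_exists_ne_one R).resolve_left hne
  obtain ⟨r, -, -, htr, -, -⟩ := hF.rot
  obtain ⟨k, hk⟩ := htr r₀ i ⟨hcl.1 hr₀, hsq r₀ hr₀⟩ hi hr1 hi1
  rw [← hk]
  exact hcl.2 r₀ hr₀ _ (hk ▸ hi.1)

/-- The centre of a quasisimple group below the counterexample, strongly closed subgroup outside it. -/
theorem center_eq_bot_of_closed {n : ℕ} (hb : Below.{u} n) (hn : Nat.card X < n) (hqs : Cfsg.IsQuasisimple X)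
    (h2 : IsPGroup 2 (center X)) (P : Sylow 2 X) (R₀ R : Subgroup X) (hR : R ≤ R₀)
    (hcl : Cfsg.IsStronglyClosed R₀ (P : Subgroup X)) (hsup : R₀ ≤ R ⊔ center X) (hsq : ∀ x ∈ R, x * x = 1)
    (hcent : ∀ r ∈ R, ∀ x ∈ P, r * x = x * r) (havoid : R ⊓ center X = ⊥) (hne : R ≠ ⊥)
    (hnorm : ∀ g : X, (∀ x ∈ R₀, g * x * g⁻¹ ∈ R₀) → ∀ r ∈ R, g * r * g⁻¹ ∈ R) : center X = ⊥ := by
  haveI : Fact (Nat.Prime 2) := ⟨Nat.prime_two⟩
  haveI := hqs.2
  have hperf : commutator X = ⊤ := Group.isPerfect_def.1 hqs.1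
  set π := QuotientGroup.mk' (center X) with hπ
  have hπs : Function.Surjective π := QuotientGroup.mk'_surjective _
  have hna : ¬ IsMulCommutative (X ⧸ center X) := Cfsg.Lib.CpQuot.not_commutative hqs
  have hRP : R ≤ (P : Subgroup X) := hR.trans hcl.1
  have hker : ∀ {x}, π x = 1 ↔ x ∈ center X := fun {x} => QuotientGroup.eq_one_iff x
  have hZP : center X ≤ (P : Subgroup X) := by
    have h := P.is_maximal' (h2.to_sup_of_normal_left P.isPGroup') le_sup_right
    exact le_sup_left.trans h.le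
  have hlift : ∀ x, π x ∈ (P : Subgroup X).map π → x ∈ (P : Subgroup X) := fun x ⟨p, hp, e⟩ => by
    have := mul_mem hp (hZP (hker.1 (show π (p⁻¹ * x) = 1 by rw [map_mul, map_inv, e, inv_mul_cancel])))
    rwa [mul_inv_cancel_left] at this
  set Q := P.mapSurjective hπs with hQ
  have hQP : (Q : Subgroup (X ⧸ center X)) = (P : Subgroup X).map π := rfl
  set R' := R.map π with hR'
  have hne' : R' ≠ ⊥ := fun e => by
    obtain ⟨r, hr, hr1⟩ := (bot_or_exists_ne_one R).resolve_left hne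
    have h1 : π r ∈ R' := mem_map_of_mem π hr
    rw [e, mem_bot, hker] at h1
    have : r ∈ R ⊓ center X := mem_inf.2 ⟨hr, h1⟩
    rw [havoid, mem_bot] at this
    exact hr1 this
  have hsq' : ∀ x ∈ R', x * x = 1 := by
    rintro _ ⟨x, hx, rfl⟩
    rw [← map_mul, hsq x hx, map_one]
  have hR₀ : R₀.map π ≤ R' := by
    refine (Subgroup.map_mono hsup).trans ?_
    rw [Subgroup.map_sup, show (center X).map π = ⊥ from (Subgroup.map_eq_bot_iff _).2
      (by rw [hπ, QuotientGroup.ker_mk']), sup_bot_eq]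
  have hclR : ∀ r ∈ R, ∀ g : X, g * r * g⁻¹ ∈ (P : Subgroup X) → π (g * r * g⁻¹) ∈ R' := fun r hr g hg =>
    hR₀ (mem_map_of_mem π (hcl.2 r (hR hr) g hg))
  have hcl' : Cfsg.IsStronglyClosed R' (Q : Subgroup (X ⧸ center X)) := by
    refine ⟨Subgroup.map_mono hRP, ?_⟩
    rintro _ ⟨r, hr, rfl⟩ y hy
    obtain ⟨g, rfl⟩ := hπs y
    rw [← map_inv, ← map_mul, ← map_mul] at hy ⊢
    exact hclR r hr g (hlift _ hy)
  have hcard : Nat.card (X ⧸ center X) < n := lt_of_le_of_lt (Nat.card_le_card_of_surjective π hπs) hn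
  have ht : TypedX (X ⧸ center X) := hb (X ⧸ center X) hna Q R' hne' (by
    rintro _ ⟨x, hx, rfl⟩ _ ⟨y, hy, rfl⟩
    rw [← map_mul, ← map_mul, hcent x hx y (hRP hy)]) hcl' hcard
  have hF := simpleFacts_of_typed hna ht Q
  by_cases hsqQ : ∀ x ∈ Q, x * x = 1
  · -- the Sylow subgroup is abelian
    have hle : (P : Subgroup X) ≤ R ⊔ center X := fun p hp => by
      obtain ⟨r, hr, hre⟩ := (inv_iff hF hcl' hsq' hne').1
        ⟨(mem_map_of_mem π hp : π p ∈ (Q : Subgroup _)), hsqQ _ (mem_map_of_mem π hp)⟩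
      have h1 : r⁻¹ * p ∈ center X := hker.1 (by rw [map_mul, map_inv, hre, inv_mul_cancel])
      have h3 := mul_mem (mem_sup_left (T := center X) hr) (mem_sup_right (S := R) h1)
      rwa [mul_inv_cancel_left] at h3
    have hcomm : ∀ a ∈ (P : Subgroup X), ∀ b ∈ (P : Subgroup X), a * b = b * a := by
      intro a ha b hb
      have h1 : R ⊔ center X ≤ centralizer ({b} : Set X) := sup_le
        (fun r hr => mem_centralizer_singleton_iff.2 (hcent r hr b hb))
        (fun z hz => mem_centralizer_singleton_iff.2 (mem_center_iff.1 hz b).symm)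
      exact mem_centralizer_singleton_iff.1 (h1 (hle ha))
    refine eq_bot_iff.2 fun c hc => mem_bot.2 ?_
    have := Cfsg.Lib.BenderSE.CritDep.center_le_of_derived hperf h2 P ⊥ (fun a b => mem_bot.2 (Subtype.ext (by
      show (a : X) * b * (a : X)⁻¹ * (b : X)⁻¹ = 1
      rw [hcomm a a.2 b b.2]; group))) hc (hZP hc)
    exact congrArg Subtype.val (mem_bot.1 this)
  · rcases ht with hab | hH
    · exact absurd (sq_of_abTwo hna hab Q) hsqQ
    obtain ⟨H, hp⟩ := Walter.CI.exists_pair hna hH Q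
    have hHX : (H.comap π).map π = H := map_comap_eq_self_of_surjective hπs H
    have hnormP : ∀ g ∈ H.comap π, ∀ x ∈ (P : Subgroup X), g * x * g⁻¹ ∈ (P : Subgroup X) := fun g hg x hx => by
      refine hlift _ ?_
      rw [map_mul, map_mul, map_inv]
      have hg' : π g ∈ normalizer ((Q : Subgroup (X ⧸ center X)) : Set (X ⧸ center X)) := hp.norm.ge hg
      exact (mem_normalizer_iff.1 hg' _).1 (mem_map_of_mem π hx)
    refine Cfsg.Lib.BenderSE.CritDep.CoverData.center_eq_bot Cfsg.Lib.BenderSE.regProp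
      (HX := H.comap π) (R := R) ⟨hqs, h2, hHX.symm ▸ hp.se, fun c hc => ?_, fun r hr => ?_, fun g hg => ?_,
        fun c hc hcR _ => ?_, fun x hx hx2 => ?_⟩
    · show π c ∈ H
      rw [hker.2 hc]; exact one_mem H
    · show π r ∈ H
      rw [← hp.norm]
      exact le_normalizer (mem_map_of_mem π (hRP hr))
    · exact ZStarApps.mem_normalizer_of_maps fun r hr => hnorm g
        (fun x hx => hcl.2 x hx g (hnormP g hg x (hcl.1 hx))) r hr
    · have : c ∈ R ⊓ center X := mem_inf.2 ⟨hcR, hc⟩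
      rw [havoid] at this
      exact mem_bot.1 this
    · have hi : π x * π x = 1 := by rw [← pow_two, ← hx2, pow_orderOf_eq_one]
      obtain ⟨r, hr, hre⟩ := (inv_iff hF hcl' hsq' hne').1 ⟨(hp.qinvol _ hx2 hx).1, hi⟩
      exact ⟨r, hr, hre⟩

end Cfsg.Lib.Goldschmidt.R3
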