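import Cfsg.Agent.Goldschmidt.S1.Facts
import Mathlib.GroupTheory.QuotientGroup.Defs
import Mathlib.Algebra.BigOperators.Group.Finset.Basic

/-!
A Sylow subgroup of type `PSU(3, 4)`: every element outside the involutions has all of them as commutators.
-/

set_option autoImplicit false
set_option linter.unusedSectionVars false
set_option linter.style.haveILetI false

namespace Cfsg.Lib.Goldschmidt.R3

open Subgroup

universe u

variable {X : Type u} [Group X] [Finite X] {P : Sylow 2 X}

/-- The commutator with the sign convention used here. -/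
def cm (x y : X) : X := x * y * x⁻¹ * y⁻¹

/-- The product of the conjugates `w ^ j x w ^ (-j)`, `j < m`. -/
def orb (w x : X) : ℕ → X
  | 0 => 1
  | m + 1 => orb w x m * (w ^ m * x * (w ^ m)⁻¹)

variable (F : SimpleFacts P)
include F

local notation "II" => Inv (P : Subgroup X)

theorem inv_mul {i j : X} (hi : II i) (hj : II j) : II (i * j) :=
  ⟨mul_mem hi.1 hj.1, by
    rw [(show Commute j i from (F.central j hj i hi.1)).mul_mul_mul_comm, hi.2, hj.2, one_mul]⟩

omit F in
theorem inv_inv' {i : X} (hi : II i) : i⁻¹ = i := inv_eq_of_mul_eq_one_right hi.2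

omit F in
theorem inv_one' : II (1 : X) := ⟨one_mem _, one_mul 1⟩

theorem inv_conj {i g : X} (hi : II i) (hg : g ∈ normalizer ((P : Subgroup X) : Set X)) : II (g * i * g⁻¹) :=
  ⟨(mem_normalizer_iff.1 hg i).1 hi.1, by rw [_root_.conj_mul, hi.2, mul_one, mul_inv_cancel]⟩

theorem cm_inv {x y : X} (hx : x ∈ P) (hy : y ∈ P) : II (cm x y) := by
  have h : cm x y = x * x * ((x⁻¹ * y) * (x⁻¹ * y)) * (y⁻¹ * y⁻¹) := by rw [cm]; group
  rw [h]
  exact inv_mul F (inv_mul F (F.sq x hx) (F.sq _ (mul_mem (inv_mem hx) hy))) (F.sq _ (inv_mem hy))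

theorem cm_mul_right {x y z : X} (hx : x ∈ P) (hy : y ∈ P) (hz : z ∈ P) : cm x (y * z) = cm x y * cm x z := by
  have h : cm x (y * z) = cm x y * (y * cm x z * y⁻¹) := by simp only [cm]; group
  rw [h, ← F.central _ (cm_inv F hx hz) y hy, mul_inv_cancel_right]

theorem cm_mul_left {x y z : X} (hx : x ∈ P) (hy : y ∈ P) (hz : z ∈ P) : cm (x * y) z = cm x z * cm y z := by
  have h : cm (x * y) z = (x * cm y z * x⁻¹) * cm x z := by simp only [cm]; group
  rw [h, ← F.central _ (cm_inv F hy hz) x hx, mul_inv_cancel_right,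
    F.central _ (cm_inv F hy hz) _ (cm_inv F hx hz).1]

theorem cm_comm {x y : X} (hx : x ∈ P) (hy : y ∈ P) : cm y x = cm x y := by
  rw [← inv_inv' (cm_inv F hx hy)]
  simp only [cm]; group

theorem sq_mul {x y : X} (hx : x ∈ P) (hy : y ∈ P) : x * y * (x * y) = cm y x * (x * x) * (y * y) := by
  calc x * y * (x * y) = x * (cm y x * (x * y)) * y := by simp only [cm]; group
    _ = x * cm y x * (x * y * y) := by group
    _ = cm y x * x * (x * y * y) := by rw [F.central _ (cm_inv F hy hx) x hx]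
    _ = _ := by group

theorem cm_fix {w x y : X} (hwi : ∀ i, II i → w * i * w⁻¹ = i) (hx : x ∈ P) (hy : y ∈ P) :
    cm (w * x * w⁻¹) (w * y * w⁻¹) = cm x y := by
  calc cm (w * x * w⁻¹) (w * y * w⁻¹) = w * cm x y * w⁻¹ := by simp only [cm]; group
    _ = _ := hwi _ (cm_inv F hx hy)

/-- `x` and `y` agree modulo the involutions. -/
theorem inv_trans {x y z : X} (h₁ : II (x⁻¹ * y)) (h₂ : II (y⁻¹ * z)) : II (x⁻¹ * z) := by
  have := inv_mul F h₁ h₂
  rwa [mul_assoc, mul_inv_cancel_left] at this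

/-- the involutions as a subgroup -/
def invGroup : Subgroup ↥(P : Subgroup X) where
  carrier := {p | II (p : X)}
  one_mem' := inv_one'
  mul_mem' := fun hp hq => inv_mul F hp hq
  inv_mem' := fun {p} hp => by
    show II ((p : X)⁻¹)
    rw [inv_inv' hp]; exact hp

theorem invGroup_normal : (invGroup F).Normal :=
  ⟨fun p hp q => by
    show II ((q : X) * p * (q : X)⁻¹)
    rw [← F.central p hp q q.2, mul_inv_cancel_right]; exact hp⟩

/-- For every `n` outside the involutions, all involutions are commutators `[n, p]`. -/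
theorem exists_cm (h4 : Nat.card {i // II i} = 4) {n : X} (hn : n ∈ P) (hn2 : n * n ≠ 1) {i : X} (hi : II i) :
    ∃ p ∈ P, cm n p = i := by
  classical
  obtain ⟨w, hwN, hwodd, hwi, hkill⟩ := F.kill h4 ⟨n, hn, hn2⟩
  set m := orderOf w with hm
  have hwP : ∀ (k : ℕ) {x}, x ∈ P → w ^ k * x * (w ^ k)⁻¹ ∈ (P : Subgroup X) := fun k {x} hx =>
    (mem_normalizer_iff.1 (pow_mem hwN k) x).1 hx
  have horb : ∀ (k : ℕ) {x}, x ∈ P → orb w x k ∈ (P : Subgroup X) := fun k {x} hx => by
    induction k with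
    | zero => exact one_mem _
    | succ k ih => exact mul_mem ih (hwP k hx)
  -- the product over the orbit lies in the involutions
  haveI := invGroup_normal F
  set π := QuotientGroup.mk' (invGroup F) with hπ
  have hab : ∀ a b, π a * π b = π b * π a := fun a b => by
    rw [← map_mul, ← map_mul, ← mul_inv_eq_one, ← map_inv, ← map_mul]
    refine (QuotientGroup.eq_one_iff _).2 ?_
    show II ((a : X) * b * ((b : X) * a)⁻¹)
    have := cm_inv F a.2 b.2
    rwa [cm, mul_assoc _ (a : X)⁻¹, ← mul_inv_rev] at this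
  let cj : ℕ → ↥(P : Subgroup X) → ↥(P : Subgroup X) := fun k p => ⟨w ^ k * p * (w ^ k)⁻¹, hwP k p.2⟩
  let om : ℕ → ↥(P : Subgroup X) → ↥(P : Subgroup X) := fun k p => ⟨orb w p k, horb k p.2⟩
  have hom : ∀ k p q, π (om k (p * q)) = π (om k p) * π (om k q) := by
    intro k p q
    induction k with
    | zero =>
      rw [← map_mul]
      exact congrArg π (Subtype.ext (one_mul (1 : X)).symm)
    | succ k ih =>
      have e : ∀ r, π (om (k + 1) r) = π (om k r) * π (cj k r) := fun r => by
        rw [← map_mul]; rfl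
      rw [e, e, e, ih, show cj k (p * q) = cj k p * cj k q from Subtype.ext (by simp [cj, mul_assoc]), map_mul]
      calc π (om k p) * π (om k q) * (π (cj k p) * π (cj k q))
          = π (om k p) * (π (om k q) * π (cj k p)) * π (cj k q) := by group
        _ = π (om k p) * (π (cj k p) * π (om k q)) * π (cj k q) := by rw [hab (om k q)]
        _ = _ := by group
  let δ : ↥(P : Subgroup X) →* ↥(P : Subgroup X) ⧸ invGroup F :=
    MonoidHom.mk' (fun p => π (om m p)) (hom m)
  have hδ1 : δ = 1 := by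
    refine hkill _ δ (fun p hp => (QuotientGroup.eq_one_iff _).2 ?_) fun p q hpq => ?_
    · show II (orb w (p : X) m)
      have : ∀ k, II (orb w (p : X) k) := fun k => by
        induction k with
        | zero => exact inv_one'
        | succ k ih => exact inv_mul F ih (inv_conj F hp (pow_mem hwN k))
      exact this m
    · have key : ∀ k, π (om k q) = (π (cj 0 p))⁻¹ * π (om k p) * π (cj k p) := by
        intro k
        induction k with
        | zero =>
          rw [show π (om 0 p) = 1 from (map_one π), show π (om 0 q) = 1 from (map_one π), mul_one, inv_mul_cancel]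
        | succ k ih =>
          rw [show π (om (k + 1) q) = π (om k q) * π (cj k q) by rw [← map_mul]; rfl, ih,
            show π (om (k + 1) p) = π (om k p) * π (cj k p) by rw [← map_mul]; rfl,
            show cj k q = cj (k + 1) p from Subtype.ext (by
              show w ^ k * (q : X) * (w ^ k)⁻¹ = w ^ (k + 1) * p * (w ^ (k + 1))⁻¹
              rw [hpq, pow_succ]; group)]
          group
      show π (om m q) = π (om m p)
      rw [key m, show cj m p = cj 0 p from Subtype.ext (by
        show w ^ m * (p : X) * (w ^ m)⁻¹ = w ^ 0 * p * (w ^ 0)⁻¹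
        rw [hm, pow_orderOf_eq_one, pow_zero]), mul_assoc, hab (om m p), inv_mul_cancel_left]
  have hN : ∀ {x}, x ∈ P → II (orb w x m) := fun {x} hx =>
    (QuotientGroup.eq_one_iff (om m ⟨x, hx⟩)).1 (DFunLike.congr_fun hδ1 ⟨x, hx⟩)
  -- the radicals
  let Rad : X → X → Prop := fun h x => x ∈ P ∧ ∀ p ∈ P, cm x p = 1 ∨ cm x p = h
  have hRmul : ∀ {h x y}, II h → Rad h x → Rad h y → Rad h (x * y) := by
    intro h x y hh hx hy
    refine ⟨mul_mem hx.1 hy.1, fun p hp => ?_⟩
    rw [cm_mul_left F hx.1 hy.1 hp]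
    rcases hx.2 p hp with e | e <;> rcases hy.2 p hp with e' | e' <;> rw [e, e']
    · exact Or.inl (one_mul 1)
    · exact Or.inr (one_mul h)
    · exact Or.inr (mul_one h)
    · exact Or.inl hh.2
  have hR1 : ∀ h, Rad h 1 := fun h => ⟨one_mem _, fun p _ => Or.inl (by simp [cm])⟩
  have hRw : ∀ {h x} (k : ℕ), Rad h x → Rad h (w ^ k * x * (w ^ k)⁻¹) := by
    intro h x k hx
    induction k with
    | zero => simpa using hx
    | succ k ih =>
      rw [show w ^ (k + 1) * x * (w ^ (k + 1))⁻¹ = w * (w ^ k * x * (w ^ k)⁻¹) * w⁻¹ by rw [pow_succ']; group]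
      set y := w ^ k * x * (w ^ k)⁻¹
      refine ⟨(mem_normalizer_iff.1 hwN y).1 ih.1, fun p hp => ?_⟩
      have hp' : w⁻¹ * p * w ∈ (P : Subgroup X) := by
        simpa using (mem_normalizer_iff.1 (inv_mem hwN) p).1 hp
      have e := cm_fix F hwi ih.1 hp'
      rw [show w * (w⁻¹ * p * w) * w⁻¹ = p by group] at e
      rw [e]; exact ih.2 _ hp'
  have hRsq : ∀ {h x}, II h → Rad h x → x * x = 1 ∨ x * x = h := by
    intro h x hh hx
    have hmod : ∀ k, Rad h (orb w x k) ∧
        (orb w x k * orb w x k = (x * x) ^ k ∨ orb w x k * orb w x k = h * (x * x) ^ k) := by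
      intro k
      induction k with
      | zero => exact ⟨hR1 h, Or.inl (by simp [orb])⟩
      | succ k ih =>
        have hy := hRw k hx
        have hwk : ∀ j, II j → w ^ k * j * (w ^ k)⁻¹ = j := fun j hj => by
          clear ih hy
          induction k with
          | zero => simp
          | succ k ih' =>
            rw [show w ^ (k + 1) * j * (w ^ (k + 1))⁻¹ = w ^ k * (w * j * w⁻¹) * (w ^ k)⁻¹ by rw [pow_succ]; group,
              hwi j hj, ih']
        refine ⟨hRmul hh ih.1 hy, ?_⟩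
        show orb w x k * _ * (orb w x k * _) = _ ∨ orb w x k * _ * (orb w x k * _) = _
        rw [sq_mul F ih.1.1 hy.1, cm_comm F ih.1.1 hy.1, _root_.conj_mul, hwk _ (F.sq x hx.1), pow_succ]
        rcases ih.1.2 _ hy.1 with e | e <;> rcases ih.2 with e' | e' <;> rw [e, e']
        · exact Or.inl (by rw [one_mul])
        · exact Or.inr (by rw [one_mul, mul_assoc])
        · exact Or.inr (by rw [mul_assoc])
        · exact Or.inl (by rw [← mul_assoc h, hh.2, one_mul])
    obtain ⟨-, hq⟩ := hmod m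
    rw [(hN hx.1).2] at hq
    have hmm : (x * x) ^ m = x * x := by
      obtain ⟨j, hj⟩ := hwodd
      rw [hj, pow_succ, pow_mul, pow_two, (F.sq x hx.1).2, one_pow, one_mul]
    rw [hmm] at hq
    rcases hq with e | e
    · exact Or.inl e.symm
    · refine Or.inr ?_
      calc x * x = h * h * (x * x) := by rw [hh.2, one_mul]
        _ = h := by rw [mul_assoc, ← e, mul_one]
  -- no radical outside the involutions
  have hRad : ∀ h, II h → h ≠ 1 → ∀ x, Rad h x → x * x = 1 := by
    intro u hu hu1 x hx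
    by_contra hx2
    have hxu : x * x = u := (hRsq hu hx).resolve_left hx2
    obtain ⟨r, hrN, -, htr, -, -⟩ := F.rot
    have hall : ∀ v, II v → v ≠ 1 → ∃ y, Rad v y ∧ y * y = v := by
      intro v hv hv1
      obtain ⟨k, hk⟩ := htr u v hu hv hu1 hv1
      refine ⟨r ^ k * x * (r ^ k)⁻¹, ⟨(mem_normalizer_iff.1 (pow_mem hrN k) x).1 hx.1, fun p hp => ?_⟩,
        by rw [_root_.conj_mul, hxu, hk]⟩
      have hp' : (r ^ k)⁻¹ * p * r ^ k ∈ (P : Subgroup X) := by
        simpa using (mem_normalizer_iff.1 (inv_mem (pow_mem hrN k)) p).1 hp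
      have e : cm (r ^ k * x * (r ^ k)⁻¹) p = r ^ k * cm x ((r ^ k)⁻¹ * p * r ^ k) * (r ^ k)⁻¹ := by
        simp only [cm]; group
      rcases hx.2 _ hp' with e' | e'
      · left; rw [e, e']; simp
      · right; rw [e, e', hk]
    obtain ⟨v, hv, hv1, hvu⟩ : ∃ v, II v ∧ v ≠ 1 ∧ v ≠ u := by
      obtain ⟨i, j, hi', hj', hi1, hj1, hij⟩ := F.two
      by_cases e : i = u
      · exact ⟨j, hj', hj1, fun e' => hij (e.trans e'.symm)⟩
      · exact ⟨i, hi', hi1, e⟩
    have ht : II (u * v) := inv_mul F hu hv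
    have ht1 : u * v ≠ 1 := fun e => hvu (by rw [← inv_eq_of_mul_eq_one_right e, inv_inv' hu])
    obtain ⟨y, hy, hyv⟩ := hall v hv hv1
    obtain ⟨z, hz, hzt⟩ := hall (u * v) ht ht1
    have htu : u * v ≠ u := fun e => hv1 (mul_eq_left.1 e)
    have htv : u * v ≠ v := fun e => hu1 (mul_eq_right.1 e)
    have key : ∀ x', Rad u x' → x' * x' = u → II (x' * y * z) := by
      intro x' hx' hx'u
      refine ⟨mul_mem (mul_mem hx'.1 hy.1) hz.1, ?_⟩
      have hxy : cm x' y = 1 := by
        rcases hx'.2 y hy.1 with e | e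
        · exact e
        rcases hy.2 x' hx'.1 with e' | e' <;> rw [cm_comm F hx'.1 hy.1] at e'
        · exact e'
        · exact absurd (e'.symm.trans e) hvu
      have hxz : cm x' z = 1 := by
        rcases hx'.2 z hz.1 with e | e
        · exact e
        rcases hz.2 x' hx'.1 with e' | e' <;> rw [cm_comm F hx'.1 hz.1] at e'
        · exact e'
        · exact absurd (e'.symm.trans e) htu
      have hyz : cm y z = 1 := by
        rcases hy.2 z hz.1 with e | e
        · exact e
        rcases hz.2 y hy.1 with e' | e' <;> rw [cm_comm F hy.1 hz.1] at e'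
        · exact e'
        · exact absurd (e'.symm.trans e) htv
      rw [sq_mul F (mul_mem hx'.1 hy.1) hz.1, cm_comm F (mul_mem hx'.1 hy.1) hz.1, cm_mul_left F hx'.1 hy.1 hz.1,
        hxz, hyz, one_mul, one_mul, sq_mul F hx'.1 hy.1, cm_comm F hx'.1 hy.1, hxy, one_mul, hx'u, hyv, hzt, ht.2]
    -- all the conjugates of `x` agree modulo the involutions
    have hsame : ∀ k, II ((w ^ k * x * (w ^ k)⁻¹)⁻¹ * x) := by
      intro k
      have hy' := hRw k hx
      have hsqk : w ^ k * x * (w ^ k)⁻¹ * (w ^ k * x * (w ^ k)⁻¹) = u := by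
        rcases hRsq hu hy' with e | e
        · exfalso
          rw [_root_.conj_mul, conj_eq_one_iff] at e
          exact hx2 e
        · exact e
      have h1 := key _ hy' hsqk
      have h2 := key x hx hxu
      -- `(a q)⁻¹ (b q) = q⁻¹ (a⁻¹ b) q`
      have h3 : II ((w ^ k * x * (w ^ k)⁻¹ * y * z)⁻¹ * (x * y * z)) := inv_mul F (by rw [inv_inv' h1]; exact h1) h2
      have e : (w ^ k * x * (w ^ k)⁻¹)⁻¹ * x =
          y * z * ((w ^ k * x * (w ^ k)⁻¹ * y * z)⁻¹ * (x * y * z)) * (y * z)⁻¹ := by group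
      rw [e, ← F.central _ h3 (y * z) (mul_mem hy.1 hz.1), mul_inv_cancel_right]
      exact h3
    have hprod : ∀ k, II ((orb w x k)⁻¹ * x ^ k) := by
      intro k
      induction k with
      | zero => simpa [orb] using (inv_one' (P := P))
      | succ k ih =>
        have e : (orb w x (k + 1))⁻¹ * x ^ (k + 1) =
            ((w ^ k * x * (w ^ k)⁻¹)⁻¹ * ((orb w x k)⁻¹ * x ^ k) * (w ^ k * x * (w ^ k)⁻¹)) *
              ((w ^ k * x * (w ^ k)⁻¹)⁻¹ * x) := by
          rw [pow_succ]; simp only [orb]; group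
        rw [e, ← F.central _ ih _ (inv_mem (hwP k hx.1)), mul_assoc _ (w ^ k * x * (w ^ k)⁻¹)⁻¹, inv_mul_cancel,
          mul_one]
        exact inv_mul F ih (hsame k)
    have hxm : II (x ^ m) := by
      have := inv_mul F (hN hx.1) (hprod m)
      rwa [mul_inv_cancel_left] at this
    obtain ⟨j, hj⟩ := hwodd
    rw [hj, pow_succ, pow_mul, pow_two, hxu] at hxm
    have h5 : II (u ^ j) := ⟨pow_mem hu.1 j, by rw [← (Commute.refl u).mul_pow, hu.2, one_pow]⟩
    have hxI : II x := by
      have := inv_mul F h5 hxm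
      rwa [← mul_assoc, h5.2, one_mul] at this
    exact hx2 hxI.2
  -- conclusion
  by_cases hi1 : i = 1
  · exact ⟨1, one_mem _, by simp [cm, hi1]⟩
  have hout : ∀ h, II h → h ≠ 1 → ∃ p ∈ P, cm n p ≠ 1 ∧ cm n p ≠ h := by
    intro h hh hh1
    by_contra hc
    push Not at hc
    exact hn2 (hRad h hh hh1 n ⟨hn, fun p hp => or_iff_not_imp_left.2 (hc p hp)⟩)
  obtain ⟨p, hp, hp1, hpi⟩ := hout i hi hi1
  have hv := cm_inv F hn hp
  obtain ⟨q, hq, hq1, hqp⟩ := hout _ hv hp1
  by_cases hqi : cm n q = i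
  · exact ⟨q, hq, hqi⟩
  refine ⟨p * q, mul_mem hp hq, ?_⟩
  rw [cm_mul_right F hn hp hq]
  by_contra hne
  haveI : Fintype {j // II j} := Fintype.ofFinite _
  have hv' := cm_inv F hn hq
  have h5 : ({(⟨1, inv_one'⟩ : {j // II j}), ⟨i, hi⟩, ⟨cm n p, hv⟩, ⟨cm n q, hv'⟩,
      ⟨cm n p * cm n q, inv_mul F hv hv'⟩} : Finset {j // II j}).card = 5 := by
    have e1 : cm n p * cm n q ≠ 1 := fun e => hqp ((inv_eq_of_mul_eq_one_right e).symm.trans (inv_inv' hv))
    rw [Finset.card_insert_of_notMem, Finset.card_insert_of_notMem, Finset.card_insert_of_notMem,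
      Finset.card_insert_of_notMem, Finset.card_singleton] <;>
      simp only [Finset.mem_insert, Finset.mem_singleton, Subtype.mk.injEq, not_or]
    · exact fun e => hp1 (mul_eq_right.1 e.symm)
    · exact ⟨fun e => hqp e.symm, fun e => hq1 (mul_eq_left.1 e.symm)⟩
    · exact ⟨fun e => hpi e.symm, fun e => hqi e.symm, fun e => hne e.symm⟩
    · exact ⟨fun e => hi1 e.symm, fun e => hp1 e.symm, fun e => hq1 e.symm, fun e => e1 e.symm⟩
  have hle := Finset.card_le_univ ({(⟨1, inv_one'⟩ : {j // II j}), ⟨i, hi⟩, ⟨cm n p, hv⟩, ⟨cm n q, hv'⟩,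
      ⟨cm n p * cm n q, inv_mul F hv hv'⟩} : Finset {j // II j})
  rw [h5, ← Nat.card_eq_fintype_card, h4] at hle
  omega

end Cfsg.Lib.Goldschmidt.R3
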