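import Cfsg.Agent.Goldschmidt.Three.Basic
import Cfsg.Agent.Goldschmidt.Three.LemmaR
import Cfsg.Agent.PGroups.Basic

/-!
Rank three: the components have abelian Sylow subgroups, so the Sylow subgroup of `G` acts on each of them as `A`
does, and some involution outside `A` centralises all of them.
-/

set_option autoImplicit false
set_option linter.unusedSectionVars false
set_option linter.style.haveILetI false

namespace Cfsg.Lib.Goldschmidt.R3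

open Subgroup Cfsg.Lib.Components
open scoped commutatorElement
open Cfsg.Lib.Walter (IsComp Triv Oc Qt qm bar)
open Cfsg.Lib.Components.PTerminal (Cent mem_cent)

universe u

variable {G : Type u} [Group G] [Finite G] {S : Sylow 2 G} {A : Subgroup G} {a : G} {L : Subgroup G}
  (c : Cfg S A) (hm : Moved A a L)

include c

theorem eq_of_qm {b : G} (hb : b ∈ A) {s t : G} (hs : s ∈ (S : Subgroup G)) (ht : t ∈ (S : Subgroup G))
    (he : qm b ⟨s, c.le_cz hb hs⟩ = qm b ⟨t, c.le_cz hb ht⟩) : s = t := by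
  refine mul_inv_eq_one.1 (eq_one_of_qm c hb (mul_mem hs (inv_mem ht)) ?_)
  rw [show (⟨s * t⁻¹, c.le_cz hb (mul_mem hs (inv_mem ht))⟩ : ↥(centralizer ({b} : Set G))) =
    ⟨s, c.le_cz hb hs⟩ * ⟨t, c.le_cz hb ht⟩⁻¹ from rfl, map_mul, map_inv, he, mul_inv_cancel]

omit c in
theorem mem_cent_of_conj [hN : (bar a L).Normal] (hL : L ≤ centralizer ({a} : Set G)) {g : G}
    (hg : g ∈ centralizer ({a} : Set G)) (h1 : MulAut.conjNormal (qm a ⟨g, hg⟩) = (1 : MulAut ↥(bar a L))) :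
    g ∈ Cent 2 (centralizer ({a} : Set G)) L := by
  refine (mem_cent hL).2 ⟨hg, fun l hl => Walter.mem_Oc.2
    ⟨mul_mem (mul_mem (mul_mem (hL hl) hg) (inv_mem (hL hl))) (inv_mem hg), ?_⟩⟩
  rw [show (⟨⁅l, g⁆, _⟩ : ↥(centralizer ({a} : Set G))) = ⁅(⟨l, hL hl⟩ : ↥(centralizer ({a} : Set G))), ⟨g, hg⟩⁆
    from rfl, map_commutatorElement, commutatorElement_eq_one_iff_mul_comm]
  have h2 := congrArg (fun e : MulAut ↥(bar a L) => ((e ⟨_, ⟨⟨l, hL hl⟩, hl, rfl⟩⟩ : ↥(bar a L)) : Qt a)) h1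
  simp only [MulAut.conjNormal_apply, MulAut.one_apply, mul_inv_eq_iff_eq_mul] at h2
  exact h2.symm

include hm

theorem exists_comm {n : G} (hnS : n ∈ (S : Subgroup G)) (hnL : n ∈ L) (hnA : n ∉ A) {α : G} (hα : α ∈ A)
    (hαL : α ∈ L) : ∃ p ∈ (S : Subgroup G), p ∈ L ∧ n * p * n⁻¹ * p⁻¹ = α := by
  obtain ⟨-, -, -, -, h4, P, hF, hP, hI⟩ := layer_facts c hm
  have hy : (⟨_, qm_mem c hm hnL⟩ : ↥(bar a L)) ∈ P := (hP _).2 ⟨n, hnS, hnL, rfl⟩
  have hcard : Nat.card {i // Inv (P : Subgroup ↥(bar a L)) i} = 4 := by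
    rw [← h4]
    refine (Nat.card_congr (Equiv.ofBijective (fun s : ↥(A ⊓ L) => (⟨⟨_, qm_mem c hm (mem_inf.1 s.2).2⟩,
      (hI _).2 ⟨s, (mem_inf.1 s.2).1, (mem_inf.1 s.2).2, rfl⟩⟩ : {i // Inv (P : Subgroup ↥(bar a L)) i}))
      ⟨fun s t e => Subtype.ext (eq_of_qm c hm.1 (c.min.le (mem_inf.1 s.2).1) (c.min.le (mem_inf.1 t.2).1)
        (congrArg (fun i => ((i.1 : ↥(bar a L)) : Qt a)) e)), fun i => ?_⟩)).symm
    obtain ⟨s, hs, hsL, e⟩ := (hI i.1).1 i.2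
    exact ⟨⟨s, mem_inf.2 ⟨hs, hsL⟩⟩, Subtype.ext (Subtype.ext e.symm)⟩
  have hy2 : (⟨_, qm_mem c hm hnL⟩ : ↥(bar a L)) * ⟨_, qm_mem c hm hnL⟩ ≠ 1 := fun h2 => by
    obtain ⟨s, hs, -, e⟩ := (hI _).1 ⟨hy, h2⟩
    exact hnA (eq_of_qm c hm.1 hnS (c.min.le hs) e ▸ hs)
  obtain ⟨p, hp, e⟩ := exists_cm hF hcard hy hy2 (i := ⟨_, qm_mem c hm hαL⟩) ((hI _).2 ⟨α, hα, hαL, rfl⟩)
  · obtain ⟨p', hp', hp'L, e'⟩ := (hP p).1 hp
    refine ⟨p', hp', hp'L, eq_of_qm c hm.1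
      (mul_mem (mul_mem (mul_mem hnS hp') (inv_mem hnS)) (inv_mem hp')) (c.min.le hα) ?_⟩
    rw [show (⟨n * p' * n⁻¹ * p'⁻¹, _⟩ : ↥(centralizer ({a} : Set G))) =
      ⟨n, c.le_cz hm.1 hnS⟩ * ⟨p', c.le_cz hm.1 hp'⟩ * ⟨n, c.le_cz hm.1 hnS⟩⁻¹ * ⟨p', c.le_cz hm.1 hp'⟩⁻¹ from rfl,
      map_mul, map_mul, map_mul, map_inv, map_inv, ← e']
    exact congrArg Subtype.val e

theorem exists_sq {n : G} (hnS : n ∈ (S : Subgroup G)) (hnL : n ∈ L) (hnA : n ∉ A) {p : G} (hp : p ∈ A)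
    (hpL : p ∈ L) (hp1 : p ≠ 1) : ∃ z ∈ (S : Subgroup G), z ∈ L ∧ z * z = p := by
  obtain ⟨-, -, -, -, -, P, hF, hP, hI⟩ := layer_facts c hm
  set y : ↥(bar a L) := ⟨_, qm_mem c hm hnL⟩
  have hy : y ∈ P := (hP _).2 ⟨n, hnS, hnL, rfl⟩
  have hy2 : y * y ≠ 1 := fun h2 => by
    obtain ⟨s, hs, -, e⟩ := (hI _).1 ⟨hy, h2⟩
    exact hnA (eq_of_qm c hm.1 hnS (c.min.le hs) e ▸ hs)
  obtain ⟨r, hrN, -, htr, -, -⟩ := hF.rot
  obtain ⟨k, hk⟩ := htr (y * y) ⟨_, qm_mem c hm hpL⟩ (hF.sq y hy) ((hI _).2 ⟨p, hp, hpL, rfl⟩) hy2 (fun e => hp1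
    (eq_one_of_qm c hm.1 (c.min.le hp) (congrArg Subtype.val e :)))
  obtain ⟨z, hz, hzL, e⟩ := (hP (r ^ k * y * (r ^ k)⁻¹)).1 ((mem_normalizer_iff.1 (pow_mem hrN k) y).1 hy)
  refine ⟨z, hz, hzL, eq_of_qm c hm.1 (mul_mem hz hz) (c.min.le hp) ?_⟩
  rw [show (⟨z * z, _⟩ : ↥(centralizer ({a} : Set G))) = ⟨z, c.le_cz hm.1 hz⟩ * ⟨z, c.le_cz hm.1 hz⟩ from rfl,
    map_mul, ← e]
  rw [← _root_.conj_mul] at hk
  exact congrArg Subtype.val hk

omit hm in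
theorem exists_L {b : G} (hb : b ∈ A) (hb1 : b ≠ 1) : ∃ K, Moved A b K := c.three.exists_comp b hb hb1

theorem exists_inner {g : G} (hg : g ∈ (S : Subgroup G)) (hg2 : g * g ∈ ZA A a L)
    (hd : ∀ x ∈ (S : Subgroup G), x ∈ L → x⁻¹ * (g * x * g⁻¹) ∈ A) :
    ∃ v ∈ A, v ∈ L ∧ v⁻¹ * g ∈ Cent 2 (centralizer ({a} : Set G)) L := by
  obtain ⟨-, -, -, -, -, P, hF, hP, hI⟩ := layer_facts c hm
  haveI := bar_normal c hm
  set C := centralizer ({a} : Set G)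
  have hLC : L ≤ C := hm.2.2.1.1
  set gg : C := ⟨g, c.le_cz hm.1 hg⟩
  set α : MulAut ↥(bar a L) := MulAut.conjNormal (qm a gg)
  obtain ⟨v, hv, e⟩ := hF.inner α (by
      rw [← map_mul, ← map_mul]
      refine MulEquiv.ext fun y => Subtype.ext ?_
      rw [MulAut.conjNormal_apply, MulAut.one_apply]
      have hgg : qm a (gg * gg) * (y : Qt a) = y * qm a (gg * gg) := by
        rcases (c.mem_za hm).1 hg2 with e | e
        · rw [show gg * gg = 1 from Subtype.ext e, map_one, one_mul, mul_one]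
        · obtain ⟨l, -, hl⟩ := y.2
          rw [← hl, ← map_mul, ← map_mul]
          refine congrArg (qm a) (Subtype.ext ?_)
          show g * g * (l : G) = (l : G) * (g * g)
          rw [e]
          exact (mem_centralizer_singleton_iff.1 l.2).symm
      rw [hgg, mul_inv_cancel_right])
    (fun i hi => by
      obtain ⟨s, hs, -, e⟩ := (hI i).1 hi
      refine Subtype.ext ?_
      rw [MulAut.conjNormal_apply, e, mul_inv_eq_iff_eq_mul, ← map_mul, ← map_mul]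
      exact congrArg (qm a) (Subtype.ext (mem_centralizer_iff.1 (c.three.cent hg) s hs).symm))
    (fun y hy => by
      obtain ⟨x, hx, hxL, e⟩ := (hP y).1 hy
      have hgxL : g * x * g⁻¹ ∈ L := (mem_normalizer_iff.1 (cz_le_norm c hm (c.le_cz hm.1 hg)) x).1 hxL
      refine (hI _).2 ⟨_, hd x hx hxL, mul_mem (inv_mem hxL) hgxL, ?_⟩
      show (y : Qt a)⁻¹ * _ = _
      rw [MulAut.conjNormal_apply, e, ← map_inv, ← map_inv, ← map_mul, ← map_mul, ← map_mul]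
      rfl)
  obtain ⟨s, hs, hsL, e'⟩ := (hI v).1 hv
  refine ⟨s, hs, hsL, mem_cent_of_conj hLC (mul_mem (inv_mem (hLC hsL)) (c.le_cz hm.1 hg)) ?_⟩
  rw [show (⟨s⁻¹ * g, _⟩ : C) = (⟨s, hLC hsL⟩ : C)⁻¹ * gg from rfl, map_mul, map_mul, map_inv, map_inv, ← e']
  show (MulAut.conjNormal (v : Qt a))⁻¹ * α = 1
  rw [MulAut.conjNormal_val, ← e, inv_mul_cancel]

theorem conj_cent {g y : G} (hg : g ∈ centralizer ({a} : Set G))
    (hy : y ∈ Cent 2 (centralizer ({a} : Set G)) L) :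
    g * y * g⁻¹ ∈ Cent 2 (centralizer ({a} : Set G)) L := by
  have h1 := PTerminal.cent_conj hm.2.2.1.1 hy g
  rw [map_cz, mem_centralizer_singleton_iff.1 hg, mul_inv_cancel_right,
    show L.map (MulAut.conj g).toMonoidHom = L from mem_normalizer_iff_map_conj_eq.1 (cz_le_norm c hm hg)] at h1
  exact h1

theorem le_A {n : G} (hnS : n ∈ (S : Subgroup G)) (hnL : n ∈ L) : n ∈ A := by
  by_contra hnA
  obtain ⟨-, -, -, haL, h4, -⟩ := layer_facts c hm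
  haveI : Nontrivial ↥(A ⊓ L) := Finite.one_lt_card_iff_nontrivial.1 (by rw [h4]; norm_num)
  obtain ⟨⟨p, hp⟩, hp1⟩ := exists_ne (1 : ↥(A ⊓ L))
  have hp1' : p ≠ 1 := fun e => hp1 (Subtype.ext e)
  obtain ⟨hpA, hpL⟩ := mem_inf.1 hp
  obtain ⟨Lp, hmp⟩ := exists_L c hpA hp1'
  obtain ⟨-, -, -, hpLp, h4p, -⟩ := layer_facts c hmp
  have hnormS : ∀ {b K}, Moved A b K → ∀ s ∈ (S : Subgroup G), ∀ x ∈ K, s * x * s⁻¹ ∈ K :=
    fun hk s hs x hx => (mem_normalizer_iff.1 (cz_le_norm c hk (c.le_cz hk.1 hs)) x).1 hx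
  -- the meet of the two Sylow subgroups lies in `A`
  have hQ : ∀ q ∈ (S : Subgroup G), q ∈ L → q ∈ Lp → q ∈ A := by
    intro q hqS hqL hqp
    by_contra hqA
    obtain ⟨x, hx, hxL, e⟩ := exists_comm c hm hqS hqL hqA hpA hpL
    refine hpLp (e ▸ ?_)
    rw [show q * x * q⁻¹ * x⁻¹ = q * (x * q⁻¹ * x⁻¹) by group]
    exact mul_mem hqp (hnormS hmp x hx q⁻¹ (inv_mem hqp))
  obtain ⟨z, hz, hzL, hz2⟩ := exists_sq c hm hnS hnL hnA hpA hpL hp1'
  have hzA : z ∉ A := fun hzA => hp1' (hz2.symm.trans (c.min.sq z hzA))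
  have hd : ∀ x ∈ (S : Subgroup G), x ∈ Lp → x⁻¹ * (z * x * z⁻¹) ∈ A := fun x hx hxp =>
    hQ _ (mul_mem (inv_mem hx) (mul_mem (mul_mem hz hx) (inv_mem hz)))
      (by
        rw [show x⁻¹ * (z * x * z⁻¹) = (x⁻¹ * z * x⁻¹⁻¹) * z⁻¹ by group]
        exact mul_mem (hnormS hm _ (inv_mem hx) z hzL) (inv_mem hzL))
      (mul_mem (inv_mem hxp) (hnormS hmp z hz x hxp))
  obtain ⟨v, hv, -, hvz⟩ := exists_inner c hmp hz ((c.mem_za hmp).2 (Or.inr hz2)) hd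
  -- so all of `A ⊓ L` centralises `Lp`
  have hall : A ⊓ L ≤ ZA A p Lp := by
    intro α hα
    obtain ⟨hαA, hαL⟩ := mem_inf.1 hα
    obtain ⟨x, hx, -, e⟩ := exists_comm c hm hz hzL hzA hαA hαL
    refine mem_inf.2 ⟨hαA, ?_⟩
    have h1 := mul_mem hvz (conj_cent c hmp (c.le_cz hpA hx) (inv_mem hvz))
    have hvx : v * x = x * v := mem_centralizer_iff.1 (c.three.cent hx) v hv
    rw [show v⁻¹ * z * (x * (v⁻¹ * z)⁻¹ * x⁻¹) = v⁻¹ * z * x * z⁻¹ * (v * x⁻¹) by group,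
      show v * x⁻¹ = x⁻¹ * v from ((show Commute v x from hvx).inv_right).eq,
      show v⁻¹ * z * x * z⁻¹ * (x⁻¹ * v) = v⁻¹ * (z * x * z⁻¹ * x⁻¹) * v by group, e,
      c.min.comm v⁻¹ (inv_mem hv) α hαA, inv_mul_cancel_right] at h1
    exact h1
  have := Subgroup.card_le_of_le hall
  rw [h4, c.three.zA hmp, Nat.card_zpowers, c.min.ord_two hmp.1 hmp.2.1] at this
  omega

/-- The Sylow subgroup acts on each component as `A`. -/
theorem exists_act {s : G} (hs : s ∈ (S : Subgroup G)) :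
    ∃ v ∈ A, v⁻¹ * s ∈ Cent 2 (centralizer ({a} : Set G)) L := by
  haveI : Fact (Nat.Prime 2) := ⟨Nat.prime_two⟩
  obtain ⟨hsimple, hna, -, -, h4, P, hF, hP, hI⟩ := layer_facts c hm
  haveI := hsimple
  haveI := bar_normal c hm
  set C := centralizer ({a} : Set G)
  have hPA : ∀ y, y ∈ P → ∃ x, ∃ hx : x ∈ A, x ∈ L ∧ (y : Qt a) = qm a ⟨x, c.le_cz hm.1 (c.min.le hx)⟩ :=
    fun y hy => by
      obtain ⟨x, hx, hxL, e⟩ := (hP y).1 hy
      exact ⟨x, le_A c hm hx hxL, hxL, e⟩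
  have hcomm : ∀ y ∈ P, ∀ y' ∈ P, y * y' = y' * y := fun y hy y' hy' => by
    obtain ⟨x, hx, -, e⟩ := hPA y hy
    obtain ⟨x', hx', -, e'⟩ := hPA y' hy'
    refine Subtype.ext ?_
    show (y : Qt a) * y' = y' * y
    rw [e, e', ← map_mul, ← map_mul]
    exact congrArg (qm a) (Subtype.ext (c.min.comm x hx x' hx'))
  have hab : Walter.AbTwo ↥(bar a L) := by
    intro R x hx y hy
    obtain ⟨g, hg⟩ := MulAction.exists_smul_eq ↥(bar a L) P R
    rw [← hg] at hx hy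
    obtain ⟨x', hx', rfl⟩ := hx
    obtain ⟨y', hy', rfl⟩ := hy
    show MulAut.conj g x' * MulAut.conj g y' = MulAut.conj g y' * MulAut.conj g x'
    rw [← map_mul, ← map_mul, hcomm x' hx' y' hy']
  have hPne : (P : Subgroup ↥(bar a L)) ≠ ⊥ := fun e => by
    obtain ⟨i, -, hi, -, hi1, -⟩ := hF.two
    exact hi1 (mem_bot.1 (e ▸ hi.1))
  set gg : C := ⟨s, c.le_cz hm.1 hs⟩
  set α : MulAut ↥(bar a L) := MulAut.conjNormal (qm a gg)
  obtain ⟨j, hj⟩ := S.isPGroup' ⟨s, hs⟩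
  obtain ⟨v, hv, e⟩ := inner_of_fix hna hab hPne (α := α) (by
      obtain ⟨i, -, hi⟩ := (Nat.dvd_prime_pow Nat.prime_two).1 (orderOf_dvd_of_pow_eq_one (n := 2 ^ j)
        (show α ^ 2 ^ j = 1 by
          rw [← map_pow, ← map_pow, show gg ^ 2 ^ j = 1 from Subtype.ext (congrArg Subtype.val hj :), map_one,
            map_one]))
      exact ⟨i, hi⟩)
    (fun y hy => by
      obtain ⟨x, hx, -, e⟩ := hPA y hy
      refine Subtype.ext ?_
      rw [MulAut.conjNormal_apply, e, mul_inv_eq_iff_eq_mul, ← map_mul, ← map_mul]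
      exact congrArg (qm a) (Subtype.ext (mem_centralizer_iff.1 (c.three.cent hs) x hx).symm))
  obtain ⟨x, hx, hxL, e'⟩ := hPA v hv
  refine ⟨x, hx, mem_cent_of_conj hm.2.2.1.1 (mul_mem (inv_mem (hm.2.2.1.1 hxL)) (c.le_cz hm.1 hs)) ?_⟩
  rw [show (⟨x⁻¹ * s, _⟩ : C) = (⟨x, hm.2.2.1.1 hxL⟩ : C)⁻¹ * gg from rfl, map_mul, map_mul, map_inv, map_inv, ← e']
  show (MulAut.conjNormal (v : Qt a))⁻¹ * α = 1
  rw [MulAut.conjNormal_val, ← e, inv_mul_cancel]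

omit hm in
/-- An involution of `Z(S)` outside `A` centralising every component. -/
theorem exists_c : ∃ i : G, i ∈ (S : Subgroup G) ∧ i ∉ A ∧ orderOf i = 2 ∧
    (∀ x ∈ (S : Subgroup G), i * x = x * i) ∧
    ∀ {b K}, Moved A b K → i ∈ Cent 2 (centralizer ({b} : Set G)) K := by
  classical
  haveI : Fact (Nat.Prime 2) := ⟨Nat.prime_two⟩
  set D := _root_.commutator ↥(S : Subgroup G) with hD
  have hDY : ∀ {b K}, Moved A b K → ∀ d ∈ D, ((d : ↥(S : Subgroup G)) : G) ∈ Cent 2 (centralizer ({b} : Set G)) K := by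
    intro b K hk d hd
    have hle : D ≤ (Cent 2 (centralizer ({b} : Set G)) K).subgroupOf (S : Subgroup G) := by
      rw [hD, _root_.commutator_def, commutator_le]
      intro x _ y _
      show (x : G) * y * (x : G)⁻¹ * (y : G)⁻¹ ∈ Cent 2 (centralizer ({b} : Set G)) K
      obtain ⟨v, hv, hx⟩ := exists_act c hk x.2
      obtain ⟨w, hw, hy⟩ := exists_act c hk y.2
      have hxy := mul_mem (mul_mem (mul_mem hx hy) (inv_mem hx)) (inv_mem hy)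
      have hvx : Commute v (x : G) := mem_centralizer_iff.1 (c.three.cent x.2) v hv
      have hvy : Commute v (y : G) := mem_centralizer_iff.1 (c.three.cent y.2) v hv
      have hwx : Commute w (x : G) := mem_centralizer_iff.1 (c.three.cent x.2) w hw
      have hwy : Commute w (y : G) := mem_centralizer_iff.1 (c.three.cent y.2) w hw
      have hvw : Commute v w := c.min.comm v hv w hw
      have e : v⁻¹ * (x : G) * (w⁻¹ * y) * (v⁻¹ * (x : G))⁻¹ * (w⁻¹ * (y : G))⁻¹ =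
          (x : G) * y * (x : G)⁻¹ * (y : G)⁻¹ := by
        calc _ = v⁻¹ * ((x : G) * w⁻¹) * (y * (x : G)⁻¹) * v * (y : G)⁻¹ * w := by group
          _ = v⁻¹ * (w⁻¹ * (x : G)) * (y * (x : G)⁻¹) * v * (y : G)⁻¹ * w := by rw [hwx.symm.inv_right.eq]
          _ = v⁻¹ * w⁻¹ * ((x : G) * y * (x : G)⁻¹ * v) * ((y : G)⁻¹ * w) := by group
          _ = v⁻¹ * w⁻¹ * (v * ((x : G) * y * (x : G)⁻¹)) * (w * (y : G)⁻¹) := by
            rw [((hvx.mul_right hvy).mul_right hvx.inv_right).eq, hwy.inv_right.eq]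
          _ = v⁻¹ * (w⁻¹ * v) * ((x : G) * y * (x : G)⁻¹ * w) * (y : G)⁻¹ := by group
          _ = v⁻¹ * (v * w⁻¹) * (w * ((x : G) * y * (x : G)⁻¹)) * (y : G)⁻¹ := by
            rw [hvw.symm.inv_left.eq, ((hwx.mul_right hwy).mul_right hwx.inv_right).eq]
          _ = _ := by group
      rwa [e] at hxy
    exact hle hd
  haveI : D.Normal := by rw [hD]; infer_instance
  have hDne : D ≠ ⊥ := fun e => c.min.sylow ⟨⟨fun x y => by
    have h1 : ⁅x, y⁆ ∈ D := commutator_mem_commutator (mem_top x) (mem_top y)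
    rw [e, mem_bot, commutatorElement_eq_one_iff_mul_comm] at h1
    exact h1⟩⟩
  obtain ⟨i, hiD, hiZ, hi2⟩ := Cfsg.Lib.PGroups.exists_mem_center_of_normal_ne_bot S.isPGroup' (N := D) hDne
  have hiall : ∀ {b K}, Moved A b K → (i : G) ∈ Cent 2 (centralizer ({b} : Set G)) K := fun hk => hDY hk i hiD
  have hiG : orderOf (i : G) = 2 := (Subgroup.orderOf_coe i).trans hi2
  refine ⟨i, i.2, fun hiA => ?_, hiG, fun x hx => congrArg Subtype.val (mem_center_iff.1 hiZ ⟨x, hx⟩).symm, hiall⟩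
  have hi1 : (i : G) ≠ 1 := fun e => by rw [e, orderOf_one] at hiG; omega
  obtain ⟨L₁, hm₁⟩ := exists_L c hiA hi1
  haveI : Nontrivial ↥(A ⊓ L₁) := Finite.one_lt_card_iff_nontrivial.1 (by rw [(layer_facts c hm₁).2.2.2.2.1]; norm_num)
  obtain ⟨⟨p, hp⟩, hp1⟩ := exists_ne (1 : ↥(A ⊓ L₁))
  obtain ⟨Lp, hmp⟩ := exists_L c (mem_inf.1 hp).1 (fun e => hp1 (Subtype.ext e))
  rcases (c.mem_za hmp).1 (mem_inf.2 ⟨hiA, hiall hmp⟩) with e | e
  · exact hi1 e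
  · exact (layer_facts c hm₁).2.2.2.1 (e ▸ (mem_inf.1 hp).2)

end Cfsg.Lib.Goldschmidt.R3
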